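import Groth.Agent.ProjNoether.Map
import Groth.Agent.HomogIdeal.Basic
import Mathlib

/-!
Morphisms `P^n → P^m` with `m < n` are constant: hypersurfaces meet.
-/

set_option autoImplicit false
set_option linter.style.haveILetI false
set_option backward.isDefEq.respectTransparency false

universe u

open CategoryTheory CategoryTheory.Limits AlgebraicGeometry TopologicalSpace MvPolynomial

noncomputable section

namespace Groth.Agent.ProjNoether

variable {k : Type u} [Field k] {n : ℕ}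

theorem height_mIdeal (n : ℕ) : ((n + 1 : ℕ) : ℕ∞) ≤ (HomogIdeal.mIdeal k n).height := by
  classical
  let e : ℕ → MvPolynomial (Fin (n + 1)) k →ₐ[k] MvPolynomial (Fin (n + 1)) k := fun j =>
    MvPolynomial.aeval fun i : Fin (n + 1) => if (i : ℕ) < j then 0 else MvPolynomial.X i
  let P : ℕ → Ideal (MvPolynomial (Fin (n + 1)) k) := fun j => RingHom.ker (e j)
  have hP : ∀ j, (P j).IsPrime := fun j => RingHom.ker_isPrime _
  have key : ∀ j, j ≤ n + 1 → (j : ℕ∞) ≤ (P j).height := by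
    intro j hj
    induction j with
    | zero => simp
    | succ j ih =>
      haveI := hP j
      haveI := hP (j + 1)
      have hlt : P j < P (j + 1) := by
        refine lt_of_le_of_ne (fun p hp => ?_) fun h => ?_
        · have hc : e (j + 1) = (e (j + 1)).comp (e j) := MvPolynomial.algHom_ext fun i => by
            simp only [e, AlgHom.comp_apply, MvPolynomial.aeval_X]
            by_cases h : (i : ℕ) < j
            · rw [if_pos h, map_zero, if_pos (by omega)]
            · rw [if_neg h, MvPolynomial.aeval_X]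
          change e (j + 1) p = 0
          rw [hc, AlgHom.comp_apply, show e j p = 0 from hp, map_zero]
        · have h1 : MvPolynomial.X (⟨j, by omega⟩ : Fin (n + 1)) ∈ P (j + 1) := by
            change e (j + 1) _ = 0
            simp [e]
          rw [← h] at h1
          have h2 : e j (MvPolynomial.X (⟨j, by omega⟩ : Fin (n + 1))) = 0 := h1
          simp [e] at h2
      have := Ideal.height_strict_mono_of_isPrime_of_isPrime hlt
      calc ((j + 1 : ℕ) : ℕ∞) = (j : ℕ∞) + 1 := by simp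
        _ ≤ (P j).height + 1 := add_le_add (ih (by omega)) le_rfl
        _ ≤ (P (j + 1)).height := Order.add_one_le_of_lt this
  refine (key (n + 1) le_rfl).trans (Ideal.height_mono ?_)
  intro p hp
  rw [HomogIdeal.mem_mIdeal_iff]
  have h0 : (fun i : Fin (n + 1) => if (i : ℕ) < n + 1 then (0 : MvPolynomial (Fin (n + 1)) k) else MvPolynomial.X i) = 0 :=
    funext fun i => if_pos i.2
  have h1 : e (n + 1) p = 0 := hp
  simp only [e, h0, MvPolynomial.aeval_zero, MvPolynomial.algebraMap_eq] at h1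
  exact MvPolynomial.C_injective _ _ (h1.trans (map_zero _).symm)

/-- At most `n` homogeneous principal primes have a common zero in `P^n`. -/
theorem exists_common_zero {m : ℕ} (hm : m ≤ n) (P : Fin m → Ideal (MvPolynomial (Fin (n + 1)) k))
    (π : Fin m → MvPolynomial (Fin (n + 1)) k) (hP : ∀ i, P i = Ideal.span {π i})
    (hh : ∀ i, (P i).IsHomogeneous (CohB1.polyGrading n k)) (hne : ∀ i, P i ≠ ⊤) :
    ∃ z : ProjectiveSpectrum (CohB1.polyGrading n k), ∀ i, P i ≤ z.asHomogeneousIdeal.toIdeal := by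
  classical
  let J := ⨆ i, P i
  have hJh : J.IsHomogeneous (CohB1.polyGrading n k) := Ideal.IsHomogeneous.iSup hh
  have hJ : J ≤ HomogIdeal.mIdeal k n := iSup_le fun i => HomogIdeal.le_mIdeal (hh i) (hne i)
  obtain ⟨q, hq, hqm⟩ := Ideal.exists_minimalPrimes_le hJ
  haveI := hq.1.1
  have hspan : J = Ideal.span (Set.range π) := by
    rw [Ideal.span, Submodule.span_range_eq_iSup]
    exact iSup_congr hP
  have hheight : q.height ≤ (m : ℕ∞) := by
    refine (Ideal.height_le_spanRank_toENat_of_mem_minimalPrimes J q hq).trans ?_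
    have h1 : J.spanRank ≤ (m : Cardinal) := by
      rw [hspan, Ideal.span]
      refine (Submodule.spanRank_span_le_card _).trans ?_
      exact (Cardinal.mk_le_of_surjective (f := fun i : ULift.{u} (Fin m) => (⟨π i.down, i.down, rfl⟩ : Set.range π))
        (by rintro ⟨_, i, rfl⟩; exact ⟨⟨i⟩, rfl⟩)).trans (by simp)
    simpa using Cardinal.toENat.monotone' h1
  have hrel : ¬ HomogIdeal.mIdeal k n ≤ q := fun h => by
    obtain rfl : q = HomogIdeal.mIdeal k n := le_antisymm hqm h
    have := (height_mIdeal (k := k) n).trans hheight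
    have : n + 1 ≤ m := by exact_mod_cast this
    omega
  refine ⟨⟨⟨q, HomogIdeal.isHomogeneous_of_mem_minimalPrimes hJh hq⟩, hq.1.1, fun h => hrel ?_⟩, fun i =>
    (le_iSup P i).trans hq.1.2⟩
  rw [← HomogIdeal.irrelevant_eq]
  exact h

/-- A locally principal proper closed subset of `P^n` contains a homogeneous principal prime. -/
theorem exists_principal (O : (CohB1.ProjSpace n k).Opens)
    (hloc : ∀ z : CohB1.ProjSpace n k, ∃ (W : (CohB1.ProjSpace n k).Opens) (g : Γ(CohB1.ProjSpace n k, W)),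
      z ∈ W ∧ IsAffineOpen W ∧ W ⊓ O = (CohB1.ProjSpace n k).basicOpen g)
    (hO : O ≠ ⊤) (hO' : (O : Set (CohB1.ProjSpace n k)).Nonempty) :
    ∃ (P : Ideal (MvPolynomial (Fin (n + 1)) k)) (π : MvPolynomial (Fin (n + 1)) k), P = Ideal.span {π} ∧
      P.IsHomogeneous (CohB1.polyGrading n k) ∧ P ≠ ⊤ ∧
      ∀ z : ProjectiveSpectrum (CohB1.polyGrading n k), P ≤ z.asHomogeneousIdeal.toIdeal →
        z ∉ (O : Set (CohB1.ProjSpace n k)) := by
  classical
  let S : Set (ProjectiveSpectrum (CohB1.polyGrading n k)) := {z | z ∉ (O : Set (CohB1.ProjSpace n k))}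
  have hS : S.Nonempty := by
    by_contra h
    refine hO (Opens.ext (Set.eq_univ_of_forall fun z => ?_))
    by_contra hz
    exact h ⟨z, hz⟩
  obtain ⟨z, hz, hmin⟩ := (InvImage.wf (fun z : ProjectiveSpectrum (CohB1.polyGrading n k) =>
    z.asHomogeneousIdeal.toIdeal.height) wellFounded_lt).has_min S hS
  have hgen : ∀ q : ProjectiveSpectrum (CohB1.polyGrading n k), q < z → q ∈ (O : Set (CohB1.ProjSpace n k)) := by
    intro q hq
    by_contra hqO
    haveI := q.isPrime
    haveI := z.isPrime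
    refine hmin q hqO ?_
    exact Ideal.height_strict_mono_of_isPrime_of_isPrime (hq : q.asHomogeneousIdeal.toIdeal < z.asHomogeneousIdeal.toIdeal)
  haveI := z.isPrime
  have hne : z.asHomogeneousIdeal.toIdeal ≠ ⊥ := by
    intro h0
    obtain ⟨o, ho⟩ := hO'
    refine hz (Specializes.mem_open ?_ O.2 ho)
    refine specializes_iff_mem_closure.mpr ((ProjectiveSpectrum.le_iff_mem_closure _ z o).mp ?_)
    intro a ha
    have : a ∈ z.asHomogeneousIdeal.toIdeal := ha
    rw [h0, Ideal.mem_bot] at this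
    rw [this]
    exact zero_mem _
  obtain ⟨π, hπ, hπp⟩ := Ideal.IsPrime.exists_mem_prime_of_ne_bot z.isPrime hne
  refine ⟨z.asHomogeneousIdeal.toIdeal, π, ?_, z.asHomogeneousIdeal.isHomogeneous, z.isPrime.ne_top,
    fun w hw => fun hwO => hz (Specializes.mem_open (specializes_iff_mem_closure.mpr
      ((ProjectiveSpectrum.le_iff_mem_closure _ z w).mp hw)) O.2 hwO)⟩
  by_contra hne'
  obtain ⟨x, hx, hxπ⟩ : ∃ x ∈ z.asHomogeneousIdeal.toIdeal, x ∉ Ideal.span {π} := by
    by_contra! h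
    exact hne' (le_antisymm h ((Ideal.span_singleton_le_iff_mem _).mpr hπ))
  haveI : (Ideal.span {π}).IsPrime := (Ideal.span_singleton_prime hπp.ne_zero).mpr hπp
  obtain ⟨F, hF, hF0, e, hFe⟩ : ∃ F ∈ z.asHomogeneousIdeal.toIdeal, F ≠ 0 ∧ ∃ e, F ∈ CohB1.polyGrading n k e := by
    obtain ⟨F, hFm, hF0⟩ := (Submodule.ne_bot_iff _).mp hne
    obtain ⟨e, he⟩ : ∃ e, homogeneousComponent e F ≠ 0 := by
      by_contra! h
      exact hF0 (by rw [← sum_homogeneousComponent F]; exact Finset.sum_eq_zero fun i _ => h i)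
    exact ⟨_, HomogIdeal.component_mem z.asHomogeneousIdeal.isHomogeneous hFm e, he, e,
      homogeneousComponent_mem e F⟩
  obtain ⟨Q, hQ, hQz⟩ := Ideal.exists_minimalPrimes_le ((Ideal.span_singleton_le_iff_mem _).mpr hF :
    Ideal.span {F} ≤ z.asHomogeneousIdeal.toIdeal)
  haveI := hQ.1.1
  have hQne : Q ≠ ⊥ := fun h => hF0 (by
    have := hQ.1.2 (Ideal.mem_span_singleton_self F)
    rwa [h, Ideal.mem_bot] at this)
  have hQh : Q.height ≤ 1 := by
    refine (Ideal.height_le_spanRank_toENat_of_mem_minimalPrimes _ _ hQ).trans ?_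
    have : (Ideal.span {F}).spanRank ≤ ((1 : ℕ) : Cardinal) := by
      refine (Submodule.spanRank_span_le_card _).trans ?_
      simp
    simpa using Cardinal.toENat.monotone' this
  have hzh : (2 : ℕ∞) ≤ z.asHomogeneousIdeal.toIdeal.height := by
    have e1 := Ideal.height_strict_mono_of_isPrime_of_isPrime (I := (⊥ : Ideal (MvPolynomial (Fin (n + 1)) k)))
      (bot_lt_iff_ne_bot.mpr (show Ideal.span {π} ≠ ⊥ from fun h => hπp.ne_zero (Ideal.span_singleton_eq_bot.mp h)))
    have e2 := Ideal.height_strict_mono_of_isPrime_of_isPrime (I := Ideal.span {π})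
      (lt_of_le_of_ne ((Ideal.span_singleton_le_iff_mem _).mpr hπ) fun h => hxπ (h ▸ hx))
    calc (2 : ℕ∞) = 1 + 1 := (one_add_one_eq_two).symm
      _ ≤ (Ideal.span {π}).height + 1 := add_le_add (Order.one_le_iff_pos.mpr (lt_of_le_of_lt zero_le e1)) le_rfl
      _ ≤ _ := Order.add_one_le_of_lt e2
  have hlt : Q < z.asHomogeneousIdeal.toIdeal := lt_of_le_of_ne hQz fun h => by
    rw [← h] at hzh
    exact absurd (hzh.trans hQh) (by norm_num)
  let q : ProjectiveSpectrum (CohB1.polyGrading n k) :=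
    ⟨⟨Q, HomogIdeal.isHomogeneous_of_mem_minimalPrimes (Ideal.homogeneous_span _ _ (by
      rintro _ rfl; exact ⟨e, hFe⟩)) hQ⟩, hQ.1.1, fun h => z.not_irrelevant_le (h.trans hQz)⟩
  have hirr : ¬ (HomogeneousIdeal.irrelevant (CohB1.polyGrading n k)).toIdeal ≤ ⊥ := fun h =>
    (MvPolynomial.X_ne_zero (R := k) (0 : Fin (n + 1))) ((Ideal.mem_bot).mp (h
      (HomogeneousIdeal.mem_irrelevant_of_mem _ one_pos (MvPolynomial.isHomogeneous_X k 0))))
  let η : ProjectiveSpectrum (CohB1.polyGrading n k) :=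
    ⟨⟨⊥, Ideal.IsHomogeneous.bot _⟩, Ideal.isPrime_bot, hirr⟩
  have hηq : η < q := lt_of_le_of_ne (fun a ha => by
    have : a = 0 := ha
    rw [this]; exact zero_mem _) fun h => hQne (congrArg (fun p => p.asHomogeneousIdeal.toIdeal) h).symm
  have hqz : q < z := hlt
  obtain ⟨W, g, hzW, hW, hWg⟩ := hloc z
  let ze : CohB1.ProjSpace n k := z
  let qe : CohB1.ProjSpace n k := q
  let ηe : CohB1.ProjSpace n k := η
  have hsqz : qe ⤳ ze := specializes_iff_mem_closure.mpr ((ProjectiveSpectrum.le_iff_mem_closure _ q z).mp hqz.le)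
  have hsηq : ηe ⤳ qe := specializes_iff_mem_closure.mpr ((ProjectiveSpectrum.le_iff_mem_closure _ η q).mp hηq.le)
  have hqW : qe ∈ W := hsqz.mem_open W.2 hzW
  have hηW : ηe ∈ W := hsηq.mem_open W.2 hqW
  let pz := hW.primeIdealOf ⟨ze, hzW⟩
  let pq := hW.primeIdealOf ⟨qe, hqW⟩
  let pη := hW.primeIdealOf ⟨ηe, hηW⟩
  have hmem : ∀ (w : CohB1.ProjSpace n k) (hw : w ∈ W),
      g ∈ (hW.primeIdealOf ⟨w, hw⟩).asIdeal ↔ w ∉ O := fun w hw => by
    have e1 : hW.fromSpec.base (hW.primeIdealOf ⟨w, hw⟩) = w := hW.fromSpec_primeIdealOf ⟨w, hw⟩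
    have e2 := congrArg (fun U => hW.primeIdealOf ⟨w, hw⟩ ∈ U) (hW.fromSpec_preimage_basicOpen g)
    simp only [eq_iff_iff] at e2
    have e3 : w ∈ (CohB1.ProjSpace n k).basicOpen g ↔ g ∉ (hW.primeIdealOf ⟨w, hw⟩).asIdeal := by
      refine Iff.trans ?_ e2
      change _ ↔ hW.fromSpec.base (hW.primeIdealOf ⟨w, hw⟩) ∈ (CohB1.ProjSpace n k).basicOpen g
      rw [e1]
    rw [← hWg] at e3
    constructor
    · exact fun hg hwO => e3.mp ⟨hw, hwO⟩ hg
    · intro hwO
      by_contra hg
      exact hwO (e3.mpr hg).2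
  have hle : ∀ (a b : CohB1.ProjSpace n k) (ha : a ∈ W) (hb : b ∈ W), a ⤳ b → a ≠ b →
      (hW.primeIdealOf ⟨a, ha⟩).asIdeal < (hW.primeIdealOf ⟨b, hb⟩).asIdeal := fun a b ha hb h hab => by
    have h1 : hW.primeIdealOf ⟨a, ha⟩ ⤳ hW.primeIdealOf ⟨b, hb⟩ :=
      hW.fromSpec.isOpenEmbedding.isInducing.specializes_iff.mp
        (by rw [hW.fromSpec_primeIdealOf ⟨a, ha⟩, hW.fromSpec_primeIdealOf ⟨b, hb⟩]; exact h)
    refine lt_of_le_of_ne ((PrimeSpectrum.le_iff_specializes _ _).mpr h1) fun h2 => hab ?_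
    have h3 := congrArg hW.fromSpec.base (PrimeSpectrum.ext h2)
    rwa [hW.fromSpec_primeIdealOf ⟨a, ha⟩, hW.fromSpec_primeIdealOf ⟨b, hb⟩] at h3
  have l1 := hle ηe qe hηW hqW hsηq hηq.ne
  have l2 := hle qe ze hqW hzW hsqz hqz.ne
  have hgz : g ∈ pz.asIdeal := (hmem ze hzW).mpr hz
  haveI : IsNoetherianRing Γ(CohB1.ProjSpace n k, W) := by
    haveI := CohFinite.isNoetherian_projSpace n k
    exact IsLocallyNoetherian.component_noetherian ⟨W, hW⟩
  obtain ⟨R, hR, hRz⟩ := Ideal.exists_minimalPrimes_le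
    ((Ideal.span_singleton_le_iff_mem _).mpr hgz : Ideal.span {g} ≤ pz.asIdeal)
  haveI := hR.1.1
  have hRh : R.height ≤ 1 := by
    refine (Ideal.height_le_spanRank_toENat_of_mem_minimalPrimes _ _ hR).trans ?_
    have : (Ideal.span {g}).spanRank ≤ ((1 : ℕ) : Cardinal) := by
      refine (Submodule.spanRank_span_le_card _).trans ?_
      simp
    simpa using Cardinal.toENat.monotone' this
  have hReq : R = pz.asIdeal := by
    by_contra hne2
    let r : PrimeSpectrum Γ(CohB1.ProjSpace n k, W) := ⟨R, hR.1.1⟩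
    let re : CohB1.ProjSpace n k := hW.fromSpec.base r
    have hrW : re ∈ W := hW.opensRange_fromSpec ▸ ⟨r, rfl⟩
    have hrs : re ⤳ ze := by
      have := ((PrimeSpectrum.le_iff_specializes r pz).mp hRz).map hW.fromSpec.base.hom.continuous
      rwa [hW.fromSpec_primeIdealOf ⟨ze, hzW⟩] at this
    have hri : hW.primeIdealOf ⟨re, hrW⟩ = r :=
      hW.fromSpec.isOpenEmbedding.injective (hW.fromSpec_primeIdealOf ⟨re, hrW⟩)
    have hrO : re ∉ O := (hmem re hrW).mp (by rw [hri]; exact hR.1.2 (Ideal.mem_span_singleton_self g))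
    refine hrO (hgen (re : ProjectiveSpectrum (CohB1.polyGrading n k)) (lt_of_le_of_ne
      ((ProjectiveSpectrum.le_iff_mem_closure _ _ _).mpr (specializes_iff_mem_closure.mp hrs)) fun h => hne2 ?_))
    have h2 : (⟨re, hrW⟩ : W) = ⟨ze, hzW⟩ := Subtype.ext h
    have := congrArg (fun w => (hW.primeIdealOf w).asIdeal) h2
    simp only [hri] at this
    exact this
  have h1 := Ideal.height_strict_mono_of_isPrime_of_isPrime l1
  have h2 := Ideal.height_strict_mono_of_isPrime_of_isPrime l2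
  have : (2 : ℕ∞) ≤ 1 := calc (2 : ℕ∞) = 1 + 1 := (one_add_one_eq_two).symm
    _ ≤ pq.asIdeal.height + 1 := add_le_add (Order.one_le_iff_pos.mpr (lt_of_le_of_lt zero_le h1)) le_rfl
    _ ≤ pz.asIdeal.height := Order.add_one_le_of_lt h2
    _ = R.height := by rw [hReq]
    _ ≤ 1 := hRh
  exact absurd this (by norm_num)

/-- Morphisms `P^n → P^m`, `m < n`, factor through a rational point. -/
theorem exists_point_factor {m : ℕ} (hmn : m < n) (f : CohB1.ProjSpace n k ⟶ CohB1.ProjSpace m k)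
    (hf : f ≫ CohB1.ProjSpace.toSpec m k = CohB1.ProjSpace.toSpec n k) :
    ∃ q : Spec (CommRingCat.of k) ⟶ CohB1.ProjSpace m k, f = CohB1.ProjSpace.toSpec n k ≫ q := by
  classical
  haveI := Horrocks.isIntegral_projSpace (k := k) (n := n)
  let O : Fin (m + 1) → (CohB1.ProjSpace n k).Opens := fun i =>
    f ⁻¹ᵁ Proj.basicOpen (CohB1.polyGrading m k) (MvPolynomial.X i)
  have hcov : ∀ z, ∃ j, z ∈ O j := fun z => by
    obtain ⟨j, hj⟩ := Opens.mem_iSup.mp ((Groth.Agent.S9576.result m k).1.ge (x := f.base z) trivial)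
    exact ⟨j, hj⟩
  obtain ⟨i, hi⟩ : ∃ i, O i = ⊤ := by
    by_contra! hall
    have key : ∀ i, ∃ (P : Ideal (MvPolynomial (Fin (n + 1)) k)) (π : MvPolynomial (Fin (n + 1)) k),
        P = Ideal.span {π} ∧ P.IsHomogeneous (CohB1.polyGrading n k) ∧ P ≠ ⊤ ∧
        ∀ z : ProjectiveSpectrum (CohB1.polyGrading n k), P ≤ z.asHomogeneousIdeal.toIdeal →
          z ∉ (O i : Set (CohB1.ProjSpace n k)) := fun i => by
      by_cases hne : (O i : Set (CohB1.ProjSpace n k)).Nonempty
      · refine exists_principal (O i) (fun z => ?_) (hall i) hne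
        obtain ⟨j, hj⟩ := hcov z
        obtain ⟨W, hW, hzW, hWj⟩ := exists_isAffineOpen_mem_and_subset hj
        refine ⟨W, ProjMor.ev f _ W hWj (GrT.deh _
          (show MvPolynomial.X j ∈ CohB1.polyGrading m k 1 from MvPolynomial.isHomogeneous_X k j)
          (MvPolynomial.X i)), hzW, hW, ?_⟩
        exact (basicOpen_ev_deh f _ (MvPolynomial.isHomogeneous_X k i) hWj).symm
      · exact ⟨⊥, 0, (Ideal.span_singleton_eq_bot.mpr rfl).symm, Ideal.IsHomogeneous.bot _, bot_ne_top,
          fun z _ hz => hne ⟨z, hz⟩⟩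
    choose P π hP hh hne hzero using key
    obtain ⟨z, hz⟩ := exists_common_zero (k := k) (n := n) (m := m + 1) hmn P π hP hh hne
    obtain ⟨j, hj⟩ := hcov z
    exact hzero j z (hz j) hj
  haveI : IsProper (CohB1.ProjSpace.toSpec n k) := ProjMor.isProper_toSpec n k
  obtain ⟨p, hp⟩ := ProjMor.exists_lift n k (𝟙 (Spec (CommRingCat.of k)))
  let D := Proj.basicOpen (CohB1.polyGrading m k) (MvPolynomial.X i)
  have hrange : Set.range f.base ⊆ Set.range D.ι.base := by
    rw [Scheme.Opens.range_ι]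
    rintro _ ⟨z, rfl⟩
    exact hi.ge (x := z) trivial
  let f' := IsOpenImmersion.lift D.ι f hrange
  have hf' : f' ≫ D.ι = f := IsOpenImmersion.lift_fac _ _ _
  haveI : IsAffine D.toScheme := ProjLib.isAffineOpen_basicOpen _ (MvPolynomial.isHomogeneous_X k i) one_pos
  refine ⟨p ≫ f, ?_⟩
  suffices h : CohB1.ProjSpace.toSpec n k ≫ p ≫ f' = f' by
    calc f = f' ≫ D.ι := hf'.symm
      _ = (CohB1.ProjSpace.toSpec n k ≫ p ≫ f') ≫ D.ι := by rw [h]
      _ = _ := by simp only [Category.assoc, hf']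
  refine ext_of_isAffine ?_
  rw [Scheme.Hom.comp_appTop, Scheme.Hom.comp_appTop, Category.assoc]
  have hsec : p.appTop ≫ (CohB1.ProjSpace.toSpec n k).appTop = 𝟙 _ := by
    have hfld : IsField Γ(CohB1.ProjSpace n k, ⊤) := isField_of_universallyClosed k (CohB1.ProjSpace.toSpec n k)
    have hinj : Function.Injective p.appTop.hom := by
      letI := hfld.toField
      haveI : Nontrivial Γ(Spec (CommRingCat.of k), ⊤) :=
        (Scheme.ΓSpecIso (CommRingCat.of k)).commRingCatIsoToRingEquiv.toEquiv.nontrivial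
      exact RingHom.injective p.appTop.hom
    ext z
    apply hinj
    change ((CohB1.ProjSpace.toSpec n k).appTop ≫ p.appTop) (p.appTop z) = p.appTop z
    rw [← Scheme.Hom.comp_appTop, hp, Scheme.Hom.id_appTop]
    rfl
  rw [hsec, Category.comp_id]

end Groth.Agent.ProjNoether
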