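import Groth.Agent.ProjNoether.Binary

/-!
A finite surjective `S`-morphism from `(P^1_S)^n` to `P^n_S`.
-/

set_option autoImplicit false
set_option linter.style.haveILetI false
set_option backward.isDefEq.respectTransparency false

universe u

open CategoryTheory CategoryTheory.Limits AlgebraicGeometry

noncomputable section

namespace Groth.Agent.ProjNoether


/-- A map and an identity give a map of fibre products of the same kind. -/
theorem finSurj_map {X X' Y S : Scheme.{u}} (f : X ⟶ X') (a : X ⟶ S) (a' : X' ⟶ S) (b : Y ⟶ S)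
    (h : f ≫ a' = a) (hf : IsFinite f ∧ Surjective f) :
    IsFinite (pullback.map a b a' b f (𝟙 Y) (𝟙 S) (by simpa using h.symm) (by simp)) ∧
      Surjective (pullback.map a b a' b f (𝟙 Y) (𝟙 S) (by simpa using h.symm) (by simp)) := by
  have hsq : IsPullback (pullback.fst a b) (pullback.map a b a' b f (𝟙 Y) (𝟙 S) (by simpa using h.symm) (by simp))
      f (pullback.fst a' b) := by
    refine IsPullback.of_bot ?_ (pullback.lift_fst _ _ _).symm (IsPullback.of_hasPullback a' b)
    rw [pullback.lift_snd, Category.comp_id, h]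
    exact IsPullback.of_hasPullback a b
  haveI := hf.1
  haveI := hf.2
  exact ⟨MorphismProperty.of_isPullback (P := @IsFinite) hsq hf.1,
    MorphismProperty.of_isPullback (P := @Surjective) hsq hf.2⟩

/-- `P^n_S` for the zero-dimensional space. -/
theorem exists_zero (S : Scheme.{u}) : IsIso (CohB1.ProjSpaceOver.toBase 0 S) := by
  haveI := ProjMor.isIso_toSpec_zero (ULift.{u} ℤ)
  change IsIso (pullback.snd _ _)
  infer_instance

/-- Multiplication of a linear form and a form of degree `m` over any base. -/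
theorem exists_binary_over (S : Scheme.{u}) (m : ℕ) :
    ∃ φ : pullback (CohB1.ProjSpaceOver.toBase 1 S) (CohB1.ProjSpaceOver.toBase m S) ⟶
        CohB1.ProjSpaceOver (m + 1) S,
      (IsFinite φ ∧ Surjective φ) ∧ φ ≫ CohB1.ProjSpaceOver.toBase (m + 1) S =
        pullback.fst _ _ ≫ CohB1.ProjSpaceOver.toBase 1 S := by
  obtain ⟨r, hr⟩ := exists_binary.{u} m
  let q : PP.{u} 1 m ⟶ Spec (CommRingCat.of (ULift.{u} ℤ)) := p1 1 m ≫ CohB1.ProjSpace.toSpec 1 _
  let A := pullback (CohB1.ProjSpaceOver.toBase 1 S) (CohB1.ProjSpaceOver.toBase m S)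
  let B := pullback q (specULiftZIsTerminal.from S)
  let i : A ⟶ B := pullback.lift
    (pullback.lift (pullback.fst _ _ ≫ ProjMor.pz 1 S) (pullback.snd _ _ ≫ ProjMor.pz m S)
      (specULiftZIsTerminal.hom_ext _ _))
    (pullback.fst _ _ ≫ CohB1.ProjSpaceOver.toBase 1 S) (specULiftZIsTerminal.hom_ext _ _)
  let j : B ⟶ A := pullback.lift
    (pullback.lift (pullback.fst _ _ ≫ p1 1 m) (pullback.snd _ _) (specULiftZIsTerminal.hom_ext _ _))
    (pullback.lift (pullback.fst _ _ ≫ p2 1 m) (pullback.snd _ _) (specULiftZIsTerminal.hom_ext _ _))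
    (by simp [CohB1.ProjSpaceOver.toBase])
  haveI : IsIso i := by
    refine ⟨j, ?_, ?_⟩
    · refine pullback.hom_ext (pullback.hom_ext ?_ ?_) (pullback.hom_ext ?_ ?_)
      · simp [i, j, p1, ProjMor.pz]
      · simp [i, j, CohB1.ProjSpaceOver.toBase]
      · simp [i, j, p2, ProjMor.pz]
      · simp only [i, j, CohB1.ProjSpaceOver.toBase, Category.assoc, pullback.lift_snd, pullback.lift_snd_assoc,
          pullback.lift_fst, pullback.lift_fst_assoc, Category.id_comp]
        exact pullback.condition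
    · refine pullback.hom_ext (pullback.hom_ext ?_ ?_) ?_
      · simp [i, j, p1, ProjMor.pz]
      · simp [i, j, p2, ProjMor.pz]
      · simp [i, j, CohB1.ProjSpaceOver.toBase]
  obtain ⟨h1, h2⟩ := finSurj_map r q (CohB1.ProjSpace.toSpec (m + 1) _) (specULiftZIsTerminal.from S)
    (specULiftZIsTerminal.hom_ext _ _) hr
  refine ⟨i ≫ pullback.map q _ (CohB1.ProjSpace.toSpec (m + 1) _) _ r (𝟙 S) (𝟙 _)
    (specULiftZIsTerminal.hom_ext _ _) (by simp), ⟨?_, ?_⟩, ?_⟩
  · exact (MorphismProperty.cancel_left_of_respectsIso @IsFinite _ _).mpr h1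
  · exact (MorphismProperty.cancel_left_of_respectsIso @Surjective _ _).mpr h2
  · simp [i, CohB1.ProjSpaceOver.toBase]

/-- A finite surjective map `(P^1_S)^n → P^n_S`. -/
theorem exists_tower (S : Scheme.{u}) : ∀ n : ℕ,
    ∃ φ : widePullback S (fun _ : Fin n => CohB1.ProjSpaceOver 1 S)
        (fun _ => CohB1.ProjSpaceOver.toBase 1 S) ⟶ CohB1.ProjSpaceOver n S,
      IsFinite φ ∧ Surjective φ ∧ φ ≫ CohB1.ProjSpaceOver.toBase n S =
        WidePullback.base (fun _ => CohB1.ProjSpaceOver.toBase 1 S) := by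
  intro n
  induction n with
  | zero =>
    haveI := exists_zero S
    let b : widePullback S (fun _ : Fin 0 => CohB1.ProjSpaceOver 1 S)
        (fun _ => CohB1.ProjSpaceOver.toBase 1 S) ⟶ S := WidePullback.base _
    haveI : IsIso b := by
      refine ⟨WidePullback.lift (𝟙 S) (fun i => i.elim0) (fun i => i.elim0), ?_, WidePullback.lift_base _ _ _ _⟩
      exact WidePullback.hom_ext _ _ _ (fun i => i.elim0) (by simp [b])
    exact ⟨b ≫ inv (CohB1.ProjSpaceOver.toBase 0 S), inferInstance, inferInstance, by simp [b]⟩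
  | succ n ih =>
    obtain ⟨φ, hφ1, hφ2, hφb⟩ := ih
    obtain ⟨ψ, ⟨hψ1, hψ2⟩, hψb⟩ := exists_binary_over S n
    let W := widePullback S (fun _ : Fin n => CohB1.ProjSpaceOver 1 S) (fun _ => CohB1.ProjSpaceOver.toBase 1 S)
    let W' := widePullback S (fun _ : Fin (n + 1) => CohB1.ProjSpaceOver 1 S)
      (fun _ => CohB1.ProjSpaceOver.toBase 1 S)
    let bn : W ⟶ S := WidePullback.base _
    let i : W' ⟶ pullback bn (CohB1.ProjSpaceOver.toBase 1 S) := pullback.lift
      (WidePullback.lift (WidePullback.base _) (fun k => WidePullback.π _ k.succ)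
        (fun k => WidePullback.π_arrow _ _))
      (WidePullback.π _ 0) (by simp [bn])
    let j : pullback bn (CohB1.ProjSpaceOver.toBase 1 S) ⟶ W' :=
      WidePullback.lift (pullback.fst _ _ ≫ bn)
        (Fin.cons (pullback.snd _ _) fun k => pullback.fst _ _ ≫ WidePullback.π _ k)
        (Fin.cases (by simp [pullback.condition]) fun k => by simp [bn])
    haveI : IsIso i := by
      refine ⟨j, ?_, ?_⟩
      · refine WidePullback.hom_ext _ _ _ (fun l => ?_) ?_
        · induction l using Fin.cases with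
          | zero => simp [i, j]
          | succ k => simp [i, j]
        · simp [i, j, bn]
      · refine pullback.hom_ext (WidePullback.hom_ext _ _ _ (fun k => ?_) ?_) ?_
        · simp [i, j]
        · simp [i, j, bn]
        · simp [i, j]
    obtain ⟨h1, h2⟩ := finSurj_map φ bn (CohB1.ProjSpaceOver.toBase n S) (CohB1.ProjSpaceOver.toBase 1 S)
      hφb ⟨hφ1, hφ2⟩
    let t := pullback.map bn (CohB1.ProjSpaceOver.toBase 1 S) (CohB1.ProjSpaceOver.toBase n S)
      (CohB1.ProjSpaceOver.toBase 1 S) φ (𝟙 _) (𝟙 S) (by simpa using hφb.symm) (by simp)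
    haveI : IsFinite t := h1
    haveI : Surjective t := h2
    refine ⟨i ≫ t ≫ (pullbackSymmetry _ _).hom ≫ ψ, ?_, ?_, ?_⟩
    · infer_instance
    · infer_instance
    · simp only [Category.assoc, hψb, pullbackSymmetry_hom_comp_fst_assoc]
      simp [i, t]

end Groth.Agent.ProjNoether
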