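import Groth.Prelude.Def_CohB1
import Groth.Agent.GrAvoid.Basic
import Groth.Agent.Unibranch.Chains
import Groth.Agent.ProjLib.ClosedSub
import Mathlib

/-!
A subscheme of `Proj` of dimension `d` is covered by `d + 1` affine opens.
-/

set_option autoImplicit false
set_option linter.style.haveILetI false

universe u v

open CategoryTheory AlgebraicGeometry TopologicalSpace

namespace Groth.Agent.ProjNoether

variable {A : Type u} {σ : Type u} [CommRing A] [SetLike σ A] [AddSubgroupClass σ A] {𝒜 : ℕ → σ} [GradedRing 𝒜]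

theorem isHomogeneous_minimalPrimes {J q : Ideal A} (hJ : J.IsHomogeneous 𝒜) (hq : q ∈ J.minimalPrimes) :
    q.IsHomogeneous 𝒜 := by
  haveI := hq.1.1
  have h1 : J ≤ (q.homogeneousCore 𝒜).toIdeal :=
    hJ.toIdeal_homogeneousCore_eq_self.symm.trans_le (Ideal.homogeneousCore_mono _ hq.1.2)
  have h2 := hq.2 ⟨hq.1.1.homogeneousCore, h1⟩ (Ideal.toIdeal_homogeneousCore_le _ _)
  have h3 : q = (q.homogeneousCore 𝒜).toIdeal := le_antisymm h2 (Ideal.toIdeal_homogeneousCore_le _ _)
  rw [h3]
  exact HomogeneousIdeal.isHomogeneous _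

/-- Forms vanishing on the boundary without common zero on a locally closed set of bounded dimension. -/
theorem exists_forms_avoid [IsNoetherianRing A] (s : Set (ProjectiveSpectrum 𝒜)) (hs : IsLocallyClosed s) (m : ℕ) :
    ∀ W : Set (ProjectiveSpectrum 𝒜), IsClosed W →
      (∀ (l : ℕ) (c : Fin (l + 1) → ProjectiveSpectrum 𝒜), (∀ i, c i ∈ s) → c 0 ∈ W →
        (∀ i : Fin l, c i.castSucc < c i.succ) → l < m) →
      ∃ f : Fin m → A, (∀ i, (∃ e, 0 < e ∧ f i ∈ 𝒜 e) ∧
          f i ∈ (ProjectiveSpectrum.vanishingIdeal (coborder s)ᶜ).toIdeal) ∧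
        ∀ p ∈ s, p ∈ W → ∃ i, f i ∉ p.asHomogeneousIdeal := by
  classical
  have hopen : IsOpen (coborder s) := hs.isOpen_coborder
  induction m with
  | zero =>
    intro W _ hc
    exact ⟨Fin.elim0, fun i => i.elim0,
      fun p hp hpW => absurd (hc 0 (fun _ => p) (fun _ => hp) hpW fun i => i.elim0) (lt_irrefl 0)⟩
  | succ m ih =>
    intro W hW hc
    let B := (ProjectiveSpectrum.vanishingIdeal (coborder s)ᶜ).toIdeal
    let J := ProjectiveSpectrum.vanishingIdeal (closure s ∩ W)
    let P := (J.toIdeal.finite_minimalPrimes_of_isNoetherianRing.subset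
      (Set.sep_subset J.toIdeal.minimalPrimes fun q =>
        ¬ (HomogeneousIdeal.irrelevant 𝒜).toIdeal ≤ q ∧ ¬ B ≤ q)).toFinset
    obtain ⟨x, e, he, hx, hxB, hxq⟩ := GrAvoid.exists_notMem 𝒜 B
      (ProjectiveSpectrum.vanishingIdeal _).isHomogeneous P fun q hq => by
        rw [Set.Finite.mem_toFinset] at hq
        exact ⟨hq.1.1.1, hq.2.1, hq.2.2⟩
    obtain ⟨f, hf, hcov⟩ := ih (W ∩ ProjectiveSpectrum.zeroLocus _ {x})
      (hW.inter (ProjectiveSpectrum.isClosed_zeroLocus _ _)) fun l c hmem hc0 hlt => by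
      have hle : J.toIdeal ≤ (c 0).asHomogeneousIdeal.toIdeal := fun g hg =>
        (ProjectiveSpectrum.mem_vanishingIdeal _ g).mp hg _ ⟨subset_closure (hmem 0), hc0.1⟩
      haveI := (c 0).isPrime
      obtain ⟨q, hq, hqc⟩ := Ideal.exists_minimalPrimes_le hle
      have hrel : ¬ (HomogeneousIdeal.irrelevant 𝒜).toIdeal ≤ q := fun h' =>
        (c 0).not_irrelevant_le (h'.trans hqc)
      let qq : ProjectiveSpectrum 𝒜 := ⟨⟨q, isHomogeneous_minimalPrimes J.isHomogeneous hq⟩, hq.1.1, hrel⟩
      have hqW : qq ∈ closure s ∩ W := by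
        rw [← (isClosed_closure.inter hW).closure_eq,
          ← ProjectiveSpectrum.zeroLocus_vanishingIdeal_eq_closure, ProjectiveSpectrum.mem_zeroLocus]
        exact hq.1.2
      have hqco : qq ∈ coborder s := by
        refine Specializes.mem_open (specializes_iff_mem_closure.mpr
          ((ProjectiveSpectrum.le_iff_mem_closure _ qq (c 0)).mp hqc)) hopen ?_
        exact subset_coborder (hmem 0)
      have hqs : qq ∈ s := by
        have := closure_inter_coborder (s := s)
        rw [← this]
        exact ⟨hqW.1, hqco⟩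
      have hlt0 : qq < c 0 := lt_of_le_of_ne hqc fun e' => by
        have hx0 : x ∈ (c 0).asHomogeneousIdeal.toIdeal := Set.singleton_subset_iff.mp hc0.2
        have hxq' : x ∈ qq.asHomogeneousIdeal.toIdeal := by rw [e']; exact hx0
        refine hxq q ((Set.Finite.mem_toFinset _).mpr ⟨hq, hrel, fun hB => ?_⟩) hxq'
        have : qq ∈ closure (coborder s)ᶜ := by
          rw [← ProjectiveSpectrum.zeroLocus_vanishingIdeal_eq_closure, ProjectiveSpectrum.mem_zeroLocus]
          exact hB
        rw [hopen.isClosed_compl.closure_eq] at this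
        exact this hqco
      have h2 := hc (l + 1) (Fin.cons qq c) (Fin.cases (by simpa using hqs) (by simpa using hmem))
        (by simpa using hqW.2) (by
        refine Fin.cases ?_ ?_
        · simpa using hlt0
        · intro i
          simpa [← Fin.succ_castSucc] using hlt i)
      omega
    refine ⟨Fin.cons x f, Fin.cases (by simpa using ⟨⟨e, he, hx⟩, hxB⟩) (by simpa using hf), fun p hp hpW => ?_⟩
    by_cases hxp : x ∈ p.asHomogeneousIdeal
    · obtain ⟨i, hi⟩ := hcov p hp ⟨hpW, Set.singleton_subset_iff.mpr hxp⟩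
      exact ⟨i.succ, by simpa using hi⟩
    · exact ⟨0, by simpa using hxp⟩

/-- A subscheme of `Proj` of dimension at most `d` is covered by `d + 1` affines. -/
theorem exists_affine_cover [IsNoetherianRing A] {X : Scheme.{u}} (j : X ⟶ Proj 𝒜) [IsImmersion j]
    (d : ℕ) (hd : topologicalKrullDim X ≤ (d : WithBot ℕ∞)) :
    ∃ U : Fin (d + 1) → X.Opens, (∀ i, IsAffineOpen (U i)) ∧ ⨆ i, U i = ⊤ := by
  classical
  have hemb := j.isEmbedding
  have hlc : IsLocallyClosed (Set.range j.base) := j.isLocallyClosed_range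
  obtain ⟨f, hf, hcov⟩ := exists_forms_avoid (Set.range j.base) hlc (d + 1) Set.univ isClosed_univ
    fun l c hmem _ hlt => by
      choose c' hc' using hmem
      have h1 := Unibranch.natCast_le_topologicalKrullDim c' fun i =>
        ⟨hemb.isInducing.specializes_iff.mp (by
          rw [hc', hc']
          exact specializes_iff_mem_closure.mpr
            ((ProjectiveSpectrum.le_iff_mem_closure _ _ _).mp (hlt i).le)),
          fun e => (hlt i).ne (by rw [← hc', ← hc', e])⟩
      have h2 := h1.trans hd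
      have : l ≤ d := by exact_mod_cast h2
      omega
  refine ⟨fun i => j ⁻¹ᵁ Proj.basicOpen 𝒜 (f i), fun i => ?_, ?_⟩
  · obtain ⟨⟨e, he, hfe⟩, hfB⟩ := hf i
    haveI : IsAffine (Proj.basicOpen 𝒜 (f i)).toScheme := ProjLib.isAffineOpen_basicOpen 𝒜 hfe he
    haveI : IsClosedImmersion (j ∣_ Proj.basicOpen 𝒜 (f i)) := by
      refine .of_isPreimmersion _ ?_
      have hrange : Set.range (j ∣_ Proj.basicOpen 𝒜 (f i)).base =
          Subtype.val ⁻¹' closure (Set.range j.base) := by
        ext ⟨z, hz⟩
        constructor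
        · rintro ⟨w, hw⟩
          refine subset_closure ?_
          have e1 := congrArg (fun φ => φ.base w) (morphismRestrict_ι j (Proj.basicOpen 𝒜 (f i)))
          exact ⟨_, e1.symm.trans (congrArg Subtype.val hw)⟩
        · intro hzc
          have hzs : z ∈ Set.range j.base := by
            by_contra hns
            have hB : z ∈ (coborder (Set.range j.base))ᶜ := fun hco => hns (by
              rw [← closure_inter_coborder (s := Set.range j.base)]
              exact ⟨hzc, hco⟩)
            exact (ProjectiveSpectrum.mem_basicOpen _ _ _).mp hz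
              ((ProjectiveSpectrum.mem_vanishingIdeal _ _).mp hfB z hB)
          obtain ⟨w, hw⟩ := hzs
          let w' : (j ⁻¹ᵁ Proj.basicOpen 𝒜 (f i)).toScheme :=
            ⟨w, show j.base w ∈ Proj.basicOpen 𝒜 (f i) from hw.symm ▸ hz⟩
          refine ⟨w', Subtype.ext ?_⟩
          exact (congrArg (fun φ => φ.base w') (morphismRestrict_ι j (Proj.basicOpen 𝒜 (f i)))).trans hw
      rw [hrange]
      exact isClosed_closure.preimage continuous_subtype_val
    exact isAffine_of_isAffineHom (j ∣_ Proj.basicOpen 𝒜 (f i))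
  · refine top_le_iff.mp fun x _ => ?_
    obtain ⟨i, hi⟩ := hcov _ ⟨x, rfl⟩ trivial
    exact Opens.mem_iSup.mpr ⟨i, hi⟩

end Groth.Agent.ProjNoether
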