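import Groth.Agent.ProjNoether.Segre
import Mathlib.FieldTheory.IsAlgClosed.AlgebraicClosure

/-!
Multiplication of binary forms: a finite surjective map `P^1 × P^m → P^{m+1}` over the integers.
-/

set_option autoImplicit false
set_option linter.style.haveILetI false
set_option backward.isDefEq.respectTransparency false

universe u

open CategoryTheory CategoryTheory.Limits AlgebraicGeometry TopologicalSpace
open Groth.Agent.QC (resO resO_resO)
open ProjMor (ev chart ratio)

noncomputable section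

namespace Groth.Agent.ProjNoether

theorem ev_comp {X Y Z : Scheme.{u}} (g : X ⟶ Y) (r : Y ⟶ Z) {D : Z.Opens} {V : Y.Opens} {W : X.Opens}
    (h : V ≤ r ⁻¹ᵁ D) (hW : W ≤ g ⁻¹ᵁ V) (h' : W ≤ (g ≫ r) ⁻¹ᵁ D) (f : Γ(Z, D)) :
    ev (g ≫ r) D W h' f = ev g V W hW (ev r D V h f) := by
  have e : (g ≫ r).appLE D W h' = r.appLE D V h ≫ g.appLE V W hW :=
    (Scheme.Hom.appLE_comp_appLE g r D V W h hW).symm
  exact congrArg (fun m : Γ(Z, D) ⟶ Γ(X, W) => m.hom f) e

/-- The coefficient of a product of two polynomials given by their coefficient families. -/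
theorem coeff_prod {K : Type*} [CommRing K] {a b : ℕ} (A : Fin a → K) (B : Fin b → K) (i : ℕ) :
    ((∑ p : Fin a, Polynomial.C (A p) * Polynomial.X ^ (p : ℕ)) *
      (∑ q : Fin b, Polynomial.C (B q) * Polynomial.X ^ (q : ℕ))).coeff i =
      ∑ p : Fin a, ∑ q : Fin b, if (p : ℕ) + q = i then A p * B q else 0 := by
  simp only [Finset.sum_mul, Finset.mul_sum, Polynomial.finsetSum_coeff]
  rw [Finset.sum_comm]
  refine Finset.sum_congr rfl fun p _ => Finset.sum_congr rfl fun q _ => ?_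
  rw [show Polynomial.C (A p) * Polynomial.X ^ (p : ℕ) * (Polynomial.C (B q) * Polynomial.X ^ (q : ℕ)) =
      Polynomial.C (A p * B q) * Polynomial.X ^ ((p : ℕ) + q) by rw [map_mul, pow_add]; ring,
    Polynomial.coeff_C_mul_X_pow]
  exact if_congr eq_comm rfl rfl

theorem coeff_family {K : Type*} [CommRing K] {a : ℕ} (A : Fin a → K) (p : Fin a) :
    (∑ p : Fin a, Polynomial.C (A p) * Polynomial.X ^ (p : ℕ)).coeff p = A p := by
  rw [Polynomial.finsetSum_coeff, Finset.sum_eq_single p]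
  · simp
  · intro q _ hq
    rw [Polynomial.coeff_C_mul_X_pow, if_neg fun h => hq (Fin.ext h.symm)]
  · simp

/-- A nonzero binary form over an algebraically closed field has a linear factor. -/
theorem exists_factor {K : Type u} [Field K] [IsAlgClosed K] {m : ℕ} (c : Fin (m + 2) → K) (hc : ∃ i, c i ≠ 0) :
    ∃ (A : Fin 2 → K) (B : Fin (m + 1) → K), (∃ p, A p ≠ 0) ∧ (∃ q, B q ≠ 0) ∧
      ∀ i : Fin (m + 2), c i = ∑ p : Fin 2, ∑ q : Fin (m + 1), if (p : ℕ) + q = i then A p * B q else 0 := by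
  classical
  let f : Polynomial K := ∑ i : Fin (m + 2), Polynomial.C (c i) * Polynomial.X ^ (i : ℕ)
  have hf : ∀ i, f.coeff (i : Fin (m + 2)) = c i := coeff_family c
  obtain ⟨i0, hi0⟩ := hc
  have hf0 : f ≠ 0 := fun h => hi0 (by rw [← hf, h, Polynomial.coeff_zero])
  have hfd : f.natDegree ≤ m + 1 := Polynomial.natDegree_sum_le_of_forall_le _ _ fun i _ =>
    (Polynomial.natDegree_C_mul_X_pow_le _ _).trans (Nat.lt_succ_iff.mp i.2)
  suffices h : ∃ (l g : Polynomial K), l.natDegree ≤ 1 ∧ g.natDegree ≤ m ∧ l * g = f by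
    obtain ⟨l, g, hl, hg, hlg⟩ := h
    have key : ∀ {a : ℕ} (P : Polynomial K), P.natDegree ≤ a →
        (∑ p : Fin (a + 1), Polynomial.C (P.coeff p) * Polynomial.X ^ (p : ℕ)) = P := fun {a} P hP => by
      conv_rhs => rw [P.as_sum_range_C_mul_X_pow' (Nat.lt_succ_of_le hP)]
      rw [Fin.sum_univ_eq_sum_range fun i => Polynomial.C (P.coeff i) * Polynomial.X ^ i]
    refine ⟨fun p => l.coeff p, fun q => g.coeff q, ?_, ?_, fun i => ?_⟩
    · by_contra h
      push Not at h
      refine hf0 (hlg ▸ ?_)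
      rw [← key l hl]
      simp [h]
    · by_contra h
      push Not at h
      refine hf0 (hlg ▸ ?_)
      rw [← key g hg]
      simp [h]
    · rw [← coeff_prod, key l hl, key g hg, hlg, hf]
  by_cases hd : f.natDegree ≤ m
  · exact ⟨1, f, by simp, hd, one_mul f⟩
  · have hdeg : f.degree ≠ 0 := fun h => hd (by
      rw [Polynomial.natDegree_eq_of_degree_eq_some (n := 0) (by simpa using h)]; exact Nat.zero_le m)
    obtain ⟨ρ, hρ⟩ := IsAlgClosed.exists_root f hdeg
    obtain ⟨g, hg⟩ := Polynomial.dvd_iff_isRoot.mpr hρ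
    refine ⟨_, g, (Polynomial.natDegree_X_sub_C ρ).le, ?_, hg.symm⟩
    have hg0 : g ≠ 0 := fun h => hf0 (by rw [hg, h, mul_zero])
    have := Polynomial.natDegree_mul (Polynomial.X_sub_C_ne_zero ρ) hg0
    rw [← hg, Polynomial.natDegree_X_sub_C] at this
    omega

/-- The multiplication map of binary forms. -/
theorem exists_binary (m : ℕ) :
    ∃ r : PP.{u} 1 m ⟶ CohB1.ProjSpace (m + 1) (ULift.{u} ℤ), IsFinite r ∧ Surjective r := by
  classical
  obtain ⟨N, e, s, hs, hco⟩ := exists_segre.{u} 1 m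
  choose hpre hle hval using hco
  let h : Fin (m + 1 + 1) → MvPolynomial (Fin (N + 1)) (ULift.{u} ℤ) := fun i =>
    ∑ p : Fin 2, ∑ q : Fin (m + 1), if (p : ℕ) + q = i then MvPolynomial.X (e (p, q)) else 0
  have hh : ∀ i, h i ∈ CohB1.polyGrading N (ULift.{u} ℤ) 1 := fun i =>
    Submodule.sum_mem _ fun p _ => Submodule.sum_mem _ fun q _ => by
      split
      · exact MvPolynomial.isHomogeneous_X _ _
      · exact Submodule.zero_mem _
  have hhv : ∀ p i, ev s (chart N (e p)) (UU 1 m p) (hle p)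
      (GrT.deh _ (MvPolynomial.isHomogeneous_X _ (e p)) (h i)) =
      ∑ p' : Fin 2, ∑ q' : Fin (m + 1), if (p' : ℕ) + q' = i then co 1 m p (p', q') else 0 := fun p i => by
    rw [map_sum, map_sum]
    refine Finset.sum_congr rfl fun p' _ => ?_
    rw [map_sum, map_sum]
    refine Finset.sum_congr rfl fun q' _ => ?_
    split
    · exact hval p (p', q')
    · rw [map_zero, map_zero]
  have hcov : ∀ x : PP.{u} 1 m, ∃ i, s.base x ∈ Proj.basicOpen (CohB1.polyGrading N (ULift.{u} ℤ)) (h i) := by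
    intro x
    obtain ⟨p, hp⟩ := exists_cover 1 m x
    by_contra hn
    push Not at hn
    let E := (PP.{u} 1 m).evaluation (UU 1 m p) x hp
    let A : Fin 2 → (PP.{u} 1 m).residueField x := fun p' =>
      E.hom (ev (p1 1 m) (chart 1 p.1) (UU 1 m p) inf_le_left (ratio 1 p.1 p'))
    let B : Fin (m + 1) → (PP.{u} 1 m).residueField x := fun q' =>
      E.hom (ev (p2 1 m) (chart m p.2) (UU 1 m p) inf_le_right (ratio m p.2 q'))
    have hz : ∀ i : Fin (m + 1 + 1),
        (∑ p' : Fin 2, ∑ q' : Fin (m + 1), if (p' : ℕ) + q' = i then A p' * B q' else 0) = 0 := fun i => by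
      have h1 : x ∉ (PP.{u} 1 m).basicOpen (ev s (chart N (e p)) (UU 1 m p) (hle p)
          (GrT.deh _ (MvPolynomial.isHomogeneous_X _ (e p)) (h i))) := fun hx =>
        hn i ((basicOpen_ev_deh s (MvPolynomial.isHomogeneous_X _ (e p)) (hh i) (hle p)).le hx).2
      rw [← Scheme.evaluation_ne_zero_iff_mem_basicOpen (PP.{u} 1 m) x hp, not_not, hhv] at h1
      refine Eq.trans ?_ h1
      change _ = E.hom _
      rw [map_sum]
      refine Finset.sum_congr rfl fun p' _ => ?_
      rw [map_sum]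
      refine Finset.sum_congr rfl fun q' _ => ?_
      split
      · simp only [co, map_mul, A, B]
      · rw [map_zero]
    have hA : (∑ p' : Fin 2, Polynomial.C (A p') * Polynomial.X ^ (p' : ℕ)) ≠ 0 := fun h0 => by
      have := coeff_family A p.1
      rw [h0, Polynomial.coeff_zero] at this
      simp only [A, ProjMor.ratio_self, map_one] at this
      exact zero_ne_one this
    have hB : (∑ q' : Fin (m + 1), Polynomial.C (B q') * Polynomial.X ^ (q' : ℕ)) ≠ 0 := fun h0 => by
      have := coeff_family B p.2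
      rw [h0, Polynomial.coeff_zero] at this
      simp only [B, ProjMor.ratio_self, map_one] at this
      exact zero_ne_one this
    refine mul_ne_zero hA hB (Polynomial.ext fun i => ?_)
    rw [coeff_prod, Polynomial.coeff_zero]
    by_cases hi : i < m + 1 + 1
    · exact hz ⟨i, hi⟩
    · refine Finset.sum_eq_zero fun p' _ => Finset.sum_eq_zero fun q' _ => if_neg fun h' => ?_
      omega
  obtain ⟨r, -, hr⟩ := exists_projection (k := ULift.{u} ℤ) s h hh hcov
  choose hrpre hrle hrval using hr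
  haveI : IsProper (CohB1.ProjSpace.toSpec 1 (ULift.{u} ℤ)) := ProjMor.isProper_toSpec 1 _
  haveI : IsProper (CohB1.ProjSpace.toSpec m (ULift.{u} ℤ)) := ProjMor.isProper_toSpec m _
  haveI : IsProper (CohB1.ProjSpace.toSpec (m + 1) (ULift.{u} ℤ)) := ProjMor.isProper_toSpec (m + 1) _
  haveI : IsProper (r ≫ CohB1.ProjSpace.toSpec (m + 1) (ULift.{u} ℤ)) := by
    rw [specULiftZIsTerminal.hom_ext (r ≫ CohB1.ProjSpace.toSpec (m + 1) (ULift.{u} ℤ))
      (p1 1 m ≫ CohB1.ProjSpace.toSpec 1 (ULift.{u} ℤ))]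
    change IsProper (pullback.fst _ _ ≫ _)
    infer_instance
  haveI : IsProper r := IsProper.of_comp r (CohB1.ProjSpace.toSpec (m + 1) (ULift.{u} ℤ))
  haveI : IsAffineHom r := by
    refine IsZariskiLocalAtTarget.of_iSup_eq_top (P := @IsAffineHom)
      (fun j : Fin (m + 1 + 1) => chart.{u} (m + 1) j)
      (Groth.Agent.S9576.result (m + 1) (ULift.{u} ℤ)).1 fun j => ?_
    haveI : IsAffine (chart.{u} (m + 1) j).toScheme := ProjMor.isAffineOpen_chart (m + 1) j
    haveI : IsAffine (r ⁻¹ᵁ chart.{u} (m + 1) j).toScheme := by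
      rw [show r ⁻¹ᵁ chart.{u} (m + 1) j = _ from hrpre j]
      exact (ProjLib.isAffineOpen_basicOpen _ (hh j) one_pos).preimage s
    infer_instance
  refine ⟨r, IsFinite.iff_isProper_and_isAffineHom.mpr ⟨inferInstance, inferInstance⟩, ⟨fun y => ?_⟩⟩
  obtain ⟨j, hj⟩ := exists_mem_chart (m + 1) y
  let κ : Type u := (CohB1.ProjSpace (m + 1) (ULift.{u} ℤ)).residueField y
  letI : Field κ := inferInstanceAs (Field ((CohB1.ProjSpace (m + 1) (ULift.{u} ℤ)).residueField y))
  let K := AlgebraicClosure κ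
  let pt : Spec (CommRingCat.of K) ⟶ CohB1.ProjSpace (m + 1) (ULift.{u} ℤ) :=
    Spec.map (CommRingCat.ofHom (algebraMap κ K)) ≫ Scheme.fromSpecResidueField _ y
  have hpt : ∀ z, pt.base z = y := fun z => Scheme.fromSpecResidueField_apply y _
  have hptj : ⊤ ≤ pt ⁻¹ᵁ chart (m + 1) j := fun z _ => by
    change pt.base z ∈ chart (m + 1) j
    rw [hpt]; exact hj
  let G := (Scheme.ΓSpecIso (CommRingCat.of K)).commRingCatIsoToRingEquiv
  let c : Fin (m + 2) → K := fun i => G (ev pt (chart (m + 1) j) ⊤ hptj (ratio (m + 1) j i))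
  have hcj : c j = 1 := by simp only [c, ProjMor.ratio_self]; exact (congrArg G (map_one _)).trans (map_one G)
  obtain ⟨A, B, ⟨p0, hp0⟩, ⟨q0, hq0⟩, hAB⟩ := exists_factor c ⟨j, by rw [hcj]; exact one_ne_zero⟩
  obtain ⟨g1, hg1, hg1e⟩ := ProjMor.exists_hom_chart (Z := Spec (CommRingCat.of K)) p0
    (fun p => G.symm (A p / A p0)) (by rw [div_self hp0, map_one])
  obtain ⟨g2, hg2, hg2e⟩ := ProjMor.exists_hom_chart (Z := Spec (CommRingCat.of K)) q0
    (fun q => G.symm (B q / B q0)) (by rw [div_self hq0, map_one])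
  let g : Spec (CommRingCat.of K) ⟶ PP.{u} 1 m := pullback.lift g1 g2 (specULiftZIsTerminal.hom_ext _ _)
  have hgU : ⊤ ≤ g ⁻¹ᵁ UU 1 m (p0, q0) := fun z _ => by
    have e1 : (g ≫ p1 1 m).base z ∈ chart 1 p0 := by
      rw [show g ≫ p1 1 m = g1 from pullback.lift_fst _ _ _]; exact hg1 (x := z) trivial
    have e2 : (g ≫ p2 1 m).base z ∈ chart m q0 := by
      rw [show g ≫ p2 1 m = g2 from pullback.lift_snd _ _ _]; exact hg2 (x := z) trivial
    exact ⟨e1, e2⟩
  have hgco : ∀ p q, ev g (UU 1 m (p0, q0)) ⊤ hgU (co 1 m (p0, q0) (p, q)) =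
      G.symm (A p / A p0 * (B q / B q0)) := fun p q => by
    rw [map_mul, co, map_mul]
    refine congrArg₂ (· * ·) ((ev_comp g (p1 1 m) inf_le_left hgU (fun z hz => (hgU hz).1) _).symm.trans ?_)
      ((ev_comp g (p2 1 m) inf_le_right hgU (fun z hz => (hgU hz).2) _).symm.trans ?_)
    · refine Eq.trans ?_ (hg1e p)
      congr 2
      exact pullback.lift_fst _ _ _
    · refine Eq.trans ?_ (hg2e q)
      congr 2
      exact pullback.lift_snd _ _ _
  have hgs : ⊤ ≤ (g ≫ s) ⁻¹ᵁ chart N (e (p0, q0)) := fun z hz => hle _ (hgU hz)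
  have hgh : ∀ i, ev (g ≫ s) (chart N (e (p0, q0))) ⊤ hgs
      (GrT.deh _ (MvPolynomial.isHomogeneous_X _ (e (p0, q0))) (h i)) = G.symm (c i / (A p0 * B q0)) := fun i => by
    rw [ev_comp g s (hle (p0, q0)) hgU hgs, hhv, map_sum, hAB i, Finset.sum_div, map_sum]
    refine Finset.sum_congr rfl fun p _ => ?_
    rw [map_sum, Finset.sum_div, map_sum]
    refine Finset.sum_congr rfl fun q _ => ?_
    split
    · rw [hgco, div_mul_div_comm]
    · rw [map_zero, zero_div, map_zero]
  have hu : IsUnit (ev (g ≫ s) (chart N (e (p0, q0))) ⊤ hgs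
      (GrT.deh _ (MvPolynomial.isHomogeneous_X _ (e (p0, q0))) (h j))) := by
    rw [hgh, hcj]
    exact (isUnit_iff_ne_zero.mpr (one_div_ne_zero (mul_ne_zero hp0 hq0))).map G.symm
  have hsj : ⊤ ≤ (g ≫ s) ⁻¹ᵁ Proj.basicOpen (CohB1.polyGrading N (ULift.{u} ℤ)) (h j) :=
    ProjMor.le_preimage_of_isUnit _ (MvPolynomial.isHomogeneous_X _ (e (p0, q0))) (hh j) hgs hu
  have hrj : ⊤ ≤ (g ≫ r) ⁻¹ᵁ chart (m + 1) j := fun z hz => hrle j (hsj hz)
  have hval' : ∀ i, ev (g ≫ r) (chart (m + 1) j) ⊤ hrj (ratio (m + 1) j i) =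
      ev pt (chart (m + 1) j) ⊤ hptj (ratio (m + 1) j i) := fun i => by
    refine (ev_comp g r (hrle j) hsj hrj _).trans ?_
    erw [hrval j i]
    rw [← ev_comp g s le_rfl hsj hsj]
    have ec := ProjMor.ev_cross (g ≫ s) (MvPolynomial.isHomogeneous_X _ (e (p0, q0))) (hh j) hgs hsj
      (n := 1) (hh i)
    rw [pow_one] at ec
    erw [hgh, hgh] at ec
    refine G.injective ?_
    have ec' := congrArg G ec
    rw [map_mul, G.apply_symm_apply, G.apply_symm_apply, hcj, mul_one_div, div_left_inj' (mul_ne_zero hp0 hq0)] at ec'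
    exact ec'
  have heq : g ≫ r = pt := by
    have : IsIso (⊤ : (Spec (CommRingCat.of K)).Opens).ι := inferInstanceAs (IsIso (Scheme.topIso _).hom)
    refine (cancel_epi (⊤ : (Spec (CommRingCat.of K)).Opens).ι).mp
      (ProjMor.ι_comp_eq_of_ev_eq (ProjMor.isAffineOpen_chart (m + 1) j) _ _ hrj hptj
        (ProjMor.ringHom_ext_ratio j _ _ hval'))
  obtain ⟨z⟩ := (inferInstance : Nonempty (Spec (CommRingCat.of K)))
  exact ⟨g.base z, (congrArg (fun φ => φ.base z) heq).trans (hpt z)⟩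

end Groth.Agent.ProjNoether
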