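import Groth.Agent.ProjNoether.Forms
import Groth.Agent.ProjMor.Sym
import Groth.Agent.ProjMor.ProjSpaceBase
import Groth.Agent.Horrocks.Dim
import Groth.Agent.Unibranch.Chains
import Mathlib.AlgebraicGeometry.Morphisms.Proper

/-!
The linear projection of a closed subscheme of projective space: a finite surjective morphism to `P^d`.
-/

set_option autoImplicit false
set_option linter.style.haveILetI false
set_option backward.isDefEq.respectTransparency false

universe u

open CategoryTheory CategoryTheory.Limits AlgebraicGeometry TopologicalSpace MvPolynomial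
open Groth.Agent.QC (resO resO_resO)

noncomputable section

namespace Groth.Agent.ProjNoether

/-- The locus where a degree-one ratio is invertible. -/
theorem basicOpen_ev_deh {R A : Type u} [CommRing R] [CommRing A] [Algebra R A] {𝒜 : ℕ → Submodule R A}
    [GradedAlgebra 𝒜] {Z : Scheme.{u}} (r : Z ⟶ Proj 𝒜) {g g' : A} (hg : g ∈ 𝒜 1) (hg' : g' ∈ 𝒜 1)
    {V : Z.Opens} (hV : V ≤ r ⁻¹ᵁ Proj.basicOpen 𝒜 g) :
    Z.basicOpen (ProjMor.ev r _ V hV (GrT.deh 𝒜 hg g')) = V ⊓ r ⁻¹ᵁ Proj.basicOpen 𝒜 g' := by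
  have hD := GrT.basicOpen_away 𝒜 hg one_pos one_pos (GrT.mem_smul_one 𝒜 hg')
  rw [← GrT.deh_of_mem 𝒜 hg hg'] at hD
  have e : Z.basicOpen (ProjMor.ev r _ V hV (GrT.deh 𝒜 hg g')) =
      V ⊓ r ⁻¹ᵁ (Proj 𝒜).basicOpen (GrT.deh 𝒜 hg g') := by
    rw [Scheme.preimage_basicOpen]
    exact Scheme.basicOpen_res _ _ _
  rw [e, hD, Proj.basicOpen_mul]
  exact le_antisymm (fun z hz => ⟨hz.1, hz.2.2⟩) fun z hz => ⟨hz.1, hV hz.1, hz.2⟩

section

variable {k : Type u} [CommRing k] {n d : ℕ} {X : Scheme.{u}}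

/-- The morphism given by linear forms without common zero on `X`: the chart preimages. -/
theorem exists_projection (ι : X ⟶ CohB1.ProjSpace n k) (h : Fin (d + 1) → MvPolynomial (Fin (n + 1)) k)
    (hh : ∀ j, h j ∈ CohB1.polyGrading n k 1)
    (hcov : ∀ x : X, ∃ j, ι.base x ∈ Proj.basicOpen (CohB1.polyGrading n k) (h j)) :
    ∃ r : X ⟶ CohB1.ProjSpace d k,
      r ≫ CohB1.ProjSpace.toSpec d k = ι ≫ CohB1.ProjSpace.toSpec n k ∧
        ∀ j, r ⁻¹ᵁ Proj.basicOpen (CohB1.polyGrading d k) (MvPolynomial.X j) =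
          ι ⁻¹ᵁ Proj.basicOpen (CohB1.polyGrading n k) (h j) ∧
          ∃ hle : ι ⁻¹ᵁ Proj.basicOpen (CohB1.polyGrading n k) (h j) ≤
              r ⁻¹ᵁ Proj.basicOpen (CohB1.polyGrading d k) (MvPolynomial.X j),
            ∀ i, ProjMor.ev r _ _ hle
                (GrT.deh _ (MvPolynomial.isHomogeneous_X k j) (MvPolynomial.X i)) =
              ProjMor.ev ι _ _ le_rfl (GrT.deh _ (hh j) (h i)) := by
  classical
  let U : Fin (d + 1) → X.Opens := fun j => ι ⁻¹ᵁ Proj.basicOpen (CohB1.polyGrading n k) (h j)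
  let sub : MvPolynomial (Fin (d + 1)) k →ₐ[k] MvPolynomial (Fin (n + 1)) k := MvPolynomial.aeval h
  let φ : ∀ j, MvPolynomial (Fin (d + 1)) k →+* Γ(X, U j) := fun j =>
    ((ProjMor.ev ι _ (U j) le_rfl).comp (GrT.deh _ (hh j))).comp sub.toRingHom
  have hφX : ∀ j i, φ j (MvPolynomial.X i) = ProjMor.ev ι _ (U j) le_rfl (GrT.deh _ (hh j) (h i)) :=
    fun j i => by simp [φ, sub]; rfl
  have hφC : ∀ j c, φ j (algebraMap k _ c) =
      resO X le_top (ProjUP.toGlobal (ι ≫ CohB1.ProjSpace.toSpec n k) c) := fun j c => by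
    have e : φ j (algebraMap k _ c) =
        ProjMor.ev ι _ (U j) le_rfl (GrT.deh _ (hh j) (algebraMap k _ c)) :=
      congrArg (fun p => ProjMor.ev ι _ (U j) le_rfl (GrT.deh _ (hh j) p)) (sub.commutes c)
    rw [e]
    exact ProjMor.ev_deh_algebraMap _ ι rfl (hh j) le_rfl c
  have hsub1 : ∀ a ∈ CohB1.polyGrading d k 1, sub a ∈ CohB1.polyGrading n k 1 := fun a ha => by
    have := MvPolynomial.IsHomogeneous.aeval (g := h) (n := 1) ((mem_homogeneousSubmodule 1 a).mp ha)
      fun i => (mem_homogeneousSubmodule 1 _).mp (hh i)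
    simpa [sub] using this
  let C : ULift.{u} (Fin (d + 1)) → ProjMor.Chart X (CohB1.polyGrading d k) := fun j =>
    { U := U j.down
      g := MvPolynomial.X j.down
      hg := MvPolynomial.isHomogeneous_X k _
      φ := φ j.down
      hφ := by rw [hφX, GrT.deh_self, map_one] }
  obtain ⟨r, hr⟩ := ProjMor.exists_of_charts (ProjMor.genDegOne_projSpace d k) C
    (fun x => by obtain ⟨j, hj⟩ := hcov x; exact ⟨⟨j⟩, hj⟩) (by
      intro i j
      refine ⟨?_, fun c => ?_, fun a ha => ?_⟩
      · change U i.down ⊓ U j.down ≤ X.basicOpen (φ i.down (MvPolynomial.X j.down))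
        rw [hφX]
        exact (basicOpen_ev_deh ι (hh i.down) (hh j.down) le_rfl).ge
      · change resO X _ (φ i.down _) = resO X _ (φ j.down _)
        rw [hφC, hφC, resO_resO, resO_resO]
      · change resO X _ (φ i.down a) = resO X _ (φ i.down (MvPolynomial.X j.down)) * resO X _ (φ j.down a)
        rw [hφX]
        change resO X _ (ProjMor.ev ι _ _ _ (GrT.deh _ (hh i.down) (sub a))) = _ *
          resO X _ (ProjMor.ev ι _ _ _ (GrT.deh _ (hh j.down) (sub a)))
        rw [ProjMor.ev_res ι le_rfl, ProjMor.ev_res ι le_rfl, ProjMor.ev_res ι le_rfl]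
        have e := ProjMor.ev_cross (V := U i.down ⊓ U j.down) ι (hh i.down) (hh j.down)
          inf_le_left inf_le_right (hsub1 a ha)
        rw [pow_one] at e
        exact e.symm.trans (mul_comm _ _))
  refine ⟨r, ?_, fun j => ⟨?_, (hr ⟨j⟩).1, fun i => ((hr ⟨j⟩).2 _).trans (hφX j i)⟩⟩
  · refine ProjMor.ext_toSpec fun c => ProjMor.funcs_eq_of_locally fun x => ?_
    obtain ⟨j, hj⟩ := hcov x
    refine ⟨U j, hj, ?_⟩
    obtain ⟨hle, he⟩ := hr ⟨j⟩
    refine Eq.trans ?_ (hφC j c)
    refine Eq.trans ?_ (he (algebraMap k _ c))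
    exact (ProjMor.ev_deh_algebraMap (CohB1.polyGrading d k) r rfl _ hle c).symm
  · refine le_antisymm (fun x hx => ?_) (hr ⟨j⟩).1
    obtain ⟨i, hi⟩ := hcov x
    obtain ⟨hle, he⟩ := hr ⟨i⟩
    have e1 := basicOpen_ev_deh r (C ⟨i⟩).hg (MvPolynomial.isHomogeneous_X k j) hle
    have h1 : x ∈ X.basicOpen (ProjMor.ev r _ (U i) hle
        (GrT.deh _ (C ⟨i⟩).hg (MvPolynomial.X j))) := e1.symm ▸ ⟨hi, hx⟩
    rw [he] at h1
    have h2 : x ∈ X.basicOpen (φ i (MvPolynomial.X j)) := h1
    rw [hφX] at h2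
    exact ((basicOpen_ev_deh ι (hh i) (hh j) le_rfl).le h2).2

end

variable {k : Type u} [Field k] {n d : ℕ} {X : Scheme.{u}}

/-- A linear projection of a closed subscheme of dimension `d`, with its chart formula. -/
theorem exists_finite_projection [Infinite k] (ι : X ⟶ CohB1.ProjSpace n k) [IsClosedImmersion ι]
    (hd : topologicalKrullDim X = (d : WithBot ℕ∞)) :
    ∃ π : X ⟶ CohB1.ProjSpace d k, π ≫ CohB1.ProjSpace.toSpec d k = ι ≫ CohB1.ProjSpace.toSpec n k ∧
      IsFinite π ∧ Surjective π ∧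
      ∃ (h : Fin (d + 1) → MvPolynomial (Fin (n + 1)) k) (hh : ∀ j, h j ∈ CohB1.polyGrading n k 1),
        (∀ x : X, ∃ j, ι.base x ∈ Proj.basicOpen (CohB1.polyGrading n k) (h j)) ∧
        ∀ j, ∃ hle : ι ⁻¹ᵁ Proj.basicOpen (CohB1.polyGrading n k) (h j) ≤
            π ⁻¹ᵁ Proj.basicOpen (CohB1.polyGrading d k) (MvPolynomial.X j),
          ∀ i, ProjMor.ev π _ _ hle
              (GrT.deh _ (MvPolynomial.isHomogeneous_X k j) (MvPolynomial.X i)) =
            ProjMor.ev ι _ _ le_rfl (GrT.deh _ (hh j) (h i)) := by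
  classical
  have hemb := ι.isClosedEmbedding
  obtain ⟨h, hh, hcov⟩ := exists_forms (k := k) (n := n) (d + 1) (Set.range ι.base) hemb.isClosed_range
    fun l c hc0 hs => by
      have hsp : ∀ i : Fin l, @Specializes (CohB1.ProjSpace n k) _ (c i.castSucc) (c i.succ) := fun i =>
        specializes_iff_mem_closure.mpr ((ProjectiveSpectrum.le_iff_mem_closure _ _ _).mp (hs i).le)
      have hmem : ∀ i, c i ∈ Set.range ι.base := by
        refine Fin.induction hc0 fun i hi => ?_
        exact (hsp i).mem_closed hemb.isClosed_range hi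
      choose c' hc' using hmem
      have h1 := Unibranch.natCast_le_topologicalKrullDim c' fun i =>
        ⟨hemb.isInducing.specializes_iff.mp (by rw [hc', hc']; exact hsp i),
          fun e => (hs i).ne (by rw [← hc', ← hc', e])⟩
      rw [hd] at h1
      have : l ≤ d := by exact_mod_cast h1
      omega
  obtain ⟨r, hr, hpre⟩ := exists_projection ι h hh fun x => by
    obtain ⟨i, hi⟩ := hcov _ ⟨x, rfl⟩
    exact ⟨i, hi⟩
  haveI hp1 : IsProper (CohB1.ProjSpace.toSpec n k) := ProjMor.isProper_toSpec n k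
  haveI hp2 : IsProper (CohB1.ProjSpace.toSpec d k) := ProjMor.isProper_toSpec d k
  haveI : IsProper (r ≫ CohB1.ProjSpace.toSpec d k) := by rw [hr]; infer_instance
  haveI : IsProper r := IsProper.of_comp r (CohB1.ProjSpace.toSpec d k)
  haveI : IsAffineHom r := by
    refine IsZariskiLocalAtTarget.of_iSup_eq_top (P := @IsAffineHom)
      (fun j : Fin (d + 1) => Proj.basicOpen (CohB1.polyGrading d k) (MvPolynomial.X j))
      (Groth.Agent.S9576.result d k).1 fun j => ?_
    haveI : IsAffine (Proj.basicOpen (CohB1.polyGrading d k) (MvPolynomial.X j)).toScheme :=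
      ProjLib.isAffineOpen_basicOpen _ (MvPolynomial.isHomogeneous_X k j) one_pos
    haveI : IsAffine (r ⁻¹ᵁ Proj.basicOpen (CohB1.polyGrading d k) (MvPolynomial.X j)).toScheme := by
      rw [(hpre j).1]
      exact (ProjLib.isAffineOpen_basicOpen _ (hh j) one_pos).preimage ι
    infer_instance
  haveI : IsFinite r := IsFinite.iff_isProper_and_isAffineHom.mpr ⟨inferInstance, inferInstance⟩
  refine ⟨r, hr, inferInstance, ⟨?_⟩, h, hh, fun x => by
    obtain ⟨i, hi⟩ := hcov _ ⟨x, rfl⟩
    exact ⟨i, hi⟩, fun j => (hpre j).2⟩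
  by_contra hns
  haveI : QuasiSober X := inferInstance
  obtain ⟨c, hc⟩ := Unibranch.exists_chain_of_le_topologicalKrullDim (α := X) (k := d) hd.ge
  have hclosed : IsClosed (Set.range r.base) := r.isClosedMap.isClosed_range
  haveI : QuasiSober (Set.range r.base) := hclosed.isClosedEmbedding_subtypeVal.quasiSober
  have h1 : (d : WithBot ℕ∞) ≤ topologicalKrullDim (Set.range r.base) :=
    Unibranch.natCast_le_topologicalKrullDim (fun i => ⟨r.base (c i), ⟨c i, rfl⟩⟩) fun i =>
      ⟨(subtype_specializes_iff _ _).mpr ((hc i).1.map r.base.hom.continuous), fun e => by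
        have e' : r.base (c i.castSucc) = r.base (c i.succ) := congrArg Subtype.val e
        have hdis := r.isDiscrete_preimage_singleton (r.base (c i.castSucc))
        haveI := hdis.to_subtype
        have hs : (⟨c i.castSucc, rfl⟩ : r.base ⁻¹' {r.base (c i.castSucc)}) ⤳ ⟨c i.succ, e'.symm⟩ :=
          (subtype_specializes_iff _ _).mpr (hc i).1
        exact (hc i).2 (congrArg Subtype.val hs.eq)⟩
  have hne : Set.range r.base ≠ Set.univ := fun e => hns (Set.range_eq_univ.mp e)
  rcases Nat.eq_zero_or_pos d with h0 | h0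
  · subst h0
    haveI := Horrocks.isIntegral_projSpace (k := k) (n := 0)
    obtain ⟨x₀, hx₀⟩ := (Set.ne_univ_iff_exists_notMem _).mp hne
    haveI : QuasiSober (CohB1.ProjSpace 0 k) := inferInstance
    have hη : genericPoint (CohB1.ProjSpace 0 k) ∉ Set.range r.base := fun h => hne
      (Set.eq_univ_of_forall fun x => (genericPoint_specializes x).mem_closed hclosed h)
    have h2 := Unibranch.natCast_le_topologicalKrullDim (k := 1)
      ![genericPoint (CohB1.ProjSpace 0 k), r.base (c 0)] fun i => by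
        fin_cases i
        exact ⟨genericPoint_specializes _, fun e => hη ⟨c 0, e.symm⟩⟩
    rw [S10829.result k 0] at h2
    have : (1 : ℕ) ≤ 0 := by exact_mod_cast h2
    omega
  · have h2 := h1.trans (Horrocks.dim_le_of_closed_ne_univ hclosed hne (d - 1) (by omega))
    have : d ≤ d - 1 := by exact_mod_cast h2
    omega

/-- A closed subscheme of `P^n` of dimension `d` over an infinite field maps finitely onto `P^d`. -/
theorem exists_finite_surjective [Infinite k] (ι : X ⟶ CohB1.ProjSpace n k) [IsClosedImmersion ι]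
    (hd : topologicalKrullDim X = (d : WithBot ℕ∞)) :
    ∃ π : X ⟶ CohB1.ProjSpace d k, π ≫ CohB1.ProjSpace.toSpec d k = ι ≫ CohB1.ProjSpace.toSpec n k ∧
      IsFinite π ∧ Surjective π := by
  obtain ⟨r, hr, hfin, hsurj, -⟩ := exists_finite_projection ι hd
  exact ⟨r, hr, hfin, hsurj⟩

end Groth.Agent.ProjNoether
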