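import Groth.Prelude.Def_CohB1
import Groth.Agent.RelProjLib.ProjMap
import Groth.Agent.CoprodLib.Basic
import Groth.Agent.ProjNoether.Map
import Mathlib

/-!
A disjoint union of two projective schemes is projective.
-/

set_option autoImplicit false
set_option linter.style.haveILetI false
set_option backward.isDefEq.respectTransparency false

universe u

open CategoryTheory CategoryTheory.Limits AlgebraicGeometry TopologicalSpace

noncomputable section

namespace Groth.Agent.ProjNoether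

variable {k : Type u} [CommRing k]

/-- A coordinate linear embedding of projective spaces. -/
theorem exists_coord_emb {n N : ℕ} (ρ : Fin (n + 1) → Fin (N + 1)) (hρ : Function.Injective ρ) :
    ∃ a : CohB1.ProjSpace n k ⟶ CohB1.ProjSpace N k, IsClosedImmersion a ∧
      a ≫ CohB1.ProjSpace.toSpec N k = CohB1.ProjSpace.toSpec n k ∧
      ∀ (z : CohB1.ProjSpace n k) (l : Fin (N + 1)), l ∉ Set.range ρ →
        a.base z ∉ Proj.basicOpen (CohB1.polyGrading N k) (MvPolynomial.X l) := by
  classical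
  let g : Fin (N + 1) → MvPolynomial (Fin (n + 1)) k := Function.extend ρ MvPolynomial.X 0
  have hg : ∀ l, (g l).IsHomogeneous 1 := fun l => by
    by_cases h : ∃ i, ρ i = l
    · obtain ⟨i, rfl⟩ := h
      simp only [g, hρ.extend_apply]
      exact MvPolynomial.isHomogeneous_X k i
    · simp only [g, Function.extend_apply' _ _ _ h]
      exact MvPolynomial.isHomogeneous_zero _ _ _
  let φ : CohB1.polyGrading N k →+*ᵍ CohB1.polyGrading n k :=
    { (MvPolynomial.aeval g).toRingHom with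
      map_mem := fun {i} p hp => by
        have := MvPolynomial.IsHomogeneous.aeval (g := g) (n := 1) ((MvPolynomial.mem_homogeneousSubmodule i p).mp hp) hg
        rw [one_mul] at this
        exact (MvPolynomial.mem_homogeneousSubmodule i _).mpr this }
  have hφX : ∀ l, φ (MvPolynomial.X l) = g l := fun l => MvPolynomial.aeval_X g l
  have hsurj : Function.Surjective φ := fun p => by
    refine ⟨MvPolynomial.rename ρ p, ?_⟩
    change MvPolynomial.aeval g (MvPolynomial.rename ρ p) = p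
    rw [MvPolynomial.aeval_rename, show g ∘ ρ = MvPolynomial.X from funext fun i => hρ.extend_apply _ _ _,
      MvPolynomial.aeval_X_left_apply]
  have hirr := ProjLib.irrelevant_le_map_of_surjective _ φ hsurj
  refine ⟨Proj.map φ hirr, ProjLib.isClosedImmersion_map _ φ hirr hsurj, ?_, fun z l hl hz => ?_⟩
  · rw [CohB1.ProjSpace.toSpec, CohB1.ProjSpace.toSpec]
    erw [RelProjLib.map_toSpecZero_assoc φ hirr]
    rw [← Spec.map_comp]
    congr 2
    refine CommRingCat.hom_ext (RingHom.ext fun c => Subtype.ext ?_)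
    exact (MvPolynomial.aeval g).commutes c
  · have h1 : z ∈ Proj.map φ hirr ⁻¹ᵁ Proj.basicOpen (CohB1.polyGrading N k) (MvPolynomial.X l) := hz
    rw [Proj.map_preimage_basicOpen, hφX] at h1
    simp only [g, Function.extend_apply' _ _ _ (fun ⟨i, hi⟩ => hl ⟨i, hi⟩), Pi.zero_apply,
      Proj.basicOpen_zero] at h1
    exact h1.elim

/-- The map from a coproduct given by closed immersions with disjoint images is a closed immersion. -/
theorem isClosedImmersion_desc {A B P : Scheme.{u}} (a : A ⟶ P) (b : B ⟶ P) [IsClosedImmersion a]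
    [IsClosedImmersion b] (hd : Disjoint (Set.range a.base) (Set.range b.base)) :
    IsClosedImmersion (coprod.desc a b) := by
  have hl : ∀ x, (coprod.desc a b).base ((coprod.inl : A ⟶ A ⨿ B).base x) = a.base x := fun x => by
    rw [← Scheme.Hom.comp_apply, coprod.inl_desc]
  have hr : ∀ x, (coprod.desc a b).base ((coprod.inr : B ⟶ A ⨿ B).base x) = b.base x := fun x => by
    rw [← Scheme.Hom.comp_apply, coprod.inr_desc]
  have hcases : ∀ z : ↥(A ⨿ B), (∃ x, (coprod.inl : A ⟶ A ⨿ B).base x = z) ∨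
      ∃ x, (coprod.inr : B ⟶ A ⨿ B).base x = z := fun z =>
    (isCompl_range_inl_inr A B).sup_eq_top.ge (Set.mem_univ z)
  refine @IsClosedImmersion.mk _ _ _ ⟨fun z => ?_⟩ ?_
  · rcases hcases z with ⟨x, rfl⟩ | ⟨x, rfl⟩
    · have key : Function.Surjective (((coprod.inl : A ⟶ A ⨿ B) ≫ coprod.desc a b).stalkMap x).hom := by
        rw [coprod.inl_desc]; exact a.stalkMap_surjective x
      rw [Scheme.Hom.stalkMap_comp] at key
      intro w
      obtain ⟨v, hv⟩ := key ((coprod.inl : A ⟶ A ⨿ B).stalkMap x w)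
      exact ⟨v, (ConcreteCategory.bijective_of_isIso ((coprod.inl : A ⟶ A ⨿ B).stalkMap x)).1 hv⟩
    · have key : Function.Surjective (((coprod.inr : B ⟶ A ⨿ B) ≫ coprod.desc a b).stalkMap x).hom := by
        rw [coprod.inr_desc]; exact b.stalkMap_surjective x
      rw [Scheme.Hom.stalkMap_comp] at key
      intro w
      obtain ⟨v, hv⟩ := key ((coprod.inr : B ⟶ A ⨿ B).stalkMap x w)
      exact ⟨v, (ConcreteCategory.bijective_of_isIso ((coprod.inr : B ⟶ A ⨿ B).stalkMap x)).1 hv⟩
  · refine Topology.IsClosedEmbedding.of_continuous_injective_isClosedMap (coprod.desc a b).continuous ?_ ?_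
    · intro z w h
      rcases hcases z with ⟨x, rfl⟩ | ⟨x, rfl⟩ <;> rcases hcases w with ⟨y, rfl⟩ | ⟨y, rfl⟩
      · rw [hl, hl] at h; rw [a.isClosedEmbedding.injective h]
      · rw [hl, hr] at h; exact absurd ⟨y, h.symm⟩ (Set.disjoint_left.mp hd ⟨x, rfl⟩)
      · rw [hr, hl] at h; exact absurd ⟨x, h⟩ (Set.disjoint_left.mp hd ⟨y, rfl⟩)
      · rw [hr, hr] at h; rw [b.isClosedEmbedding.injective h]
    · intro s hs
      have e : (coprod.desc a b).base '' s = a.base '' ((coprod.inl : A ⟶ A ⨿ B).base ⁻¹' s) ∪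
          b.base '' ((coprod.inr : B ⟶ A ⨿ B).base ⁻¹' s) := by
        ext p
        constructor
        · rintro ⟨z, hz, rfl⟩
          rcases hcases z with ⟨x, rfl⟩ | ⟨x, rfl⟩
          · exact Or.inl ⟨x, hz, (hl x).symm⟩
          · exact Or.inr ⟨x, hz, (hr x).symm⟩
        · rintro (⟨x, hx, rfl⟩ | ⟨x, hx, rfl⟩)
          · exact ⟨_, hx, hl x⟩
          · exact ⟨_, hx, hr x⟩
      rw [e]
      exact (a.isClosedEmbedding.isClosedMap _ (hs.preimage (coprod.inl : A ⟶ A ⨿ B).continuous)).union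
        (b.isClosedEmbedding.isClosedMap _ (hs.preimage (coprod.inr : B ⟶ A ⨿ B).continuous))

/-- Two projective schemes: the disjoint union embeds in `P^{n+m+1}`. -/
theorem exists_coprod_emb (n m : ℕ) {X₁ X₂ : Scheme.{u}} (i₁ : X₁ ⟶ CohB1.ProjSpace n k) [IsClosedImmersion i₁]
    (i₂ : X₂ ⟶ CohB1.ProjSpace m k) [IsClosedImmersion i₂] :
    ∃ j : X₁ ⨿ X₂ ⟶ CohB1.ProjSpace (n + m + 1) k, IsClosedImmersion j ∧
      j ≫ CohB1.ProjSpace.toSpec (n + m + 1) k =
        coprod.desc (i₁ ≫ CohB1.ProjSpace.toSpec n k) (i₂ ≫ CohB1.ProjSpace.toSpec m k) := by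
  let ρ₁ : Fin (n + 1) → Fin (n + m + 1 + 1) := fun i => ⟨i.val, by omega⟩
  let ρ₂ : Fin (m + 1) → Fin (n + m + 1 + 1) := fun i => ⟨n + 1 + i.val, by omega⟩
  obtain ⟨a, ha, hac, haz⟩ := exists_coord_emb (k := k) ρ₁ fun i j h => Fin.ext (by simpa [ρ₁] using h)
  obtain ⟨b, hb, hbc, hbz⟩ := exists_coord_emb (k := k) ρ₂ fun i j h => Fin.ext (by simpa [ρ₂] using h)
  haveI := isClosedImmersion_desc (i₁ ≫ a) (i₂ ≫ b) (Set.disjoint_left.mpr fun p ⟨x, hx⟩ ⟨y, hy⟩ => by
    obtain ⟨l, hl⟩ := Opens.mem_iSup.mp ((Groth.Agent.S9576.result (n + m + 1) k).1.ge (x := p) trivial)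
    by_cases hln : l.val ≤ n
    · refine hbz (i₂.base y) l ?_ (hy.symm ▸ hl)
      rintro ⟨i, rfl⟩
      simp only [ρ₂] at hln
      omega
    · refine haz (i₁.base x) l ?_ (hx.symm ▸ hl)
      rintro ⟨i, rfl⟩
      simp only [ρ₁] at hln
      omega)
  exact ⟨coprod.desc (i₁ ≫ a) (i₂ ≫ b), this, by simp [hac, hbc]⟩

end Groth.Agent.ProjNoether
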