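import Groth.Agent.HomogIdeal.Basic
import Mathlib

/-!
Linear forms without common zero on a closed subset of projective space of bounded dimension.
-/

set_option autoImplicit false

universe u

open MvPolynomial

namespace Groth.Agent.ProjNoether

variable {k : Type u} [Field k] {n : ℕ}

/-- A closed set all of whose chains have length less than `m` is missed by `m` linear forms. -/
theorem exists_forms [Infinite k] (m : ℕ) :
    ∀ Z : Set (ProjectiveSpectrum (CohB1.polyGrading n k)), IsClosed Z →
      (∀ (l : ℕ) (c : Fin (l + 1) → ProjectiveSpectrum (CohB1.polyGrading n k)), c 0 ∈ Z →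
        (∀ i : Fin l, c i.castSucc < c i.succ) → l < m) →
      ∃ h : Fin m → MvPolynomial (Fin (n + 1)) k, (∀ i, h i ∈ CohB1.polyGrading n k 1) ∧
        ∀ p ∈ Z, ∃ i, h i ∉ p.asHomogeneousIdeal := by
  induction m with
  | zero =>
    intro Z _ hc
    exact ⟨Fin.elim0, fun i => i.elim0,
      fun p hp => absurd (hc 0 (fun _ => p) hp fun i => i.elim0) (lt_irrefl 0)⟩
  | succ m ih =>
    intro Z hZ hc
    let J := ProjectiveSpectrum.vanishingIdeal Z
    obtain ⟨x, hx, hxq⟩ := HomogIdeal.exists_linear_avoid (k := k) (n := n)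
      {q ∈ J.toIdeal.minimalPrimes | ¬ HomogIdeal.mIdeal k n ≤ q}
      (J.toIdeal.finite_minimalPrimes_of_isNoetherianRing.subset fun q hq => hq.1) fun q hq => hq.2
    obtain ⟨h, hh, hcov⟩ := ih (Z ∩ ProjectiveSpectrum.zeroLocus _ {x})
      (hZ.inter (ProjectiveSpectrum.isClosed_zeroLocus _ _)) fun l c hc0 hs => by
      have hle : J.toIdeal ≤ (c 0).asHomogeneousIdeal.toIdeal := fun f hf =>
        (ProjectiveSpectrum.mem_vanishingIdeal Z f).mp hf _ hc0.1
      haveI := (c 0).isPrime
      obtain ⟨q, hq, hqc⟩ := Ideal.exists_minimalPrimes_le hle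
      have hrel : ¬ HomogIdeal.mIdeal k n ≤ q := fun h' => by
        refine (c 0).not_irrelevant_le ?_
        change (HomogeneousIdeal.irrelevant _).toIdeal ≤ (c 0).asHomogeneousIdeal.toIdeal
        rw [HomogIdeal.irrelevant_eq]
        exact h'.trans hqc
      let qq : ProjectiveSpectrum (CohB1.polyGrading n k) :=
        ⟨⟨q, HomogIdeal.isHomogeneous_of_mem_minimalPrimes J.isHomogeneous hq⟩, hq.1.1, fun h' => hrel (by
          have h2 : (HomogeneousIdeal.irrelevant (CohB1.polyGrading n k)).toIdeal ≤ q := h'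
          rwa [HomogIdeal.irrelevant_eq] at h2)⟩
      have hqZ : qq ∈ Z := by
        rw [← hZ.closure_eq, ← ProjectiveSpectrum.zeroLocus_vanishingIdeal_eq_closure,
          ProjectiveSpectrum.mem_zeroLocus]
        exact hq.1.2
      have hlt : qq < c 0 := lt_of_le_of_ne hqc fun e => hxq q ⟨hq, hrel⟩ (by
        have hx0 : x ∈ (c 0).asHomogeneousIdeal.toIdeal := Set.singleton_subset_iff.mp hc0.2
        have e2 : qq.asHomogeneousIdeal.toIdeal = (c 0).asHomogeneousIdeal.toIdeal := by rw [e]
        exact (SetLike.ext_iff.mp e2 x).mpr hx0)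
      have h2 := hc (l + 1) (Fin.cons qq c) (by simpa using hqZ) (by
        refine Fin.cases ?_ ?_
        · simpa using hlt
        · intro i
          simpa [← Fin.succ_castSucc] using hs i)
      omega
    refine ⟨Fin.cons x h, Fin.cases (by simpa using hx) (by simpa using hh), fun p hp => ?_⟩
    by_cases hxp : x ∈ p.asHomogeneousIdeal
    · obtain ⟨i, hi⟩ := hcov p ⟨hp, Set.singleton_subset_iff.mpr hxp⟩
      exact ⟨i.succ, by simpa using hi⟩
    · exact ⟨0, by simpa using hxp⟩

end Groth.Agent.ProjNoether
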