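import Groth.Agent.ProjNoether.Map
import Groth.Agent.ProjMor.Segre

/-!
The Segre embedding of `P^a × P^b` over the integers, in coordinates.
-/

set_option autoImplicit false
set_option linter.style.haveILetI false
set_option backward.isDefEq.respectTransparency false

universe u

open CategoryTheory CategoryTheory.Limits AlgebraicGeometry TopologicalSpace
open Groth.Agent.QC (resO resO_resO)
open ProjMor (ev chart ratio)

noncomputable section

namespace Groth.Agent.ProjNoether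

/-- Coordinate opens cover. -/
theorem exists_mem_chart (n : ℕ) (z : CohB1.ProjSpace n (ULift.{u} ℤ)) : ∃ i, z ∈ chart.{u} n i :=
  Opens.mem_iSup.mp ((Groth.Agent.S9576.result n (ULift.{u} ℤ)).1.ge trivial)

/-- The integral product `P^a × P^b`. -/
abbrev PP (a b : ℕ) : Scheme.{u} :=
  pullback (CohB1.ProjSpace.toSpec a (ULift.{u} ℤ)) (CohB1.ProjSpace.toSpec b (ULift.{u} ℤ))

/-- The first projection. -/
def p1 (a b : ℕ) : PP.{u} a b ⟶ CohB1.ProjSpace a (ULift.{u} ℤ) := pullback.fst _ _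

/-- The second projection. -/
def p2 (a b : ℕ) : PP.{u} a b ⟶ CohB1.ProjSpace b (ULift.{u} ℤ) := pullback.snd _ _

/-- The standard opens of `P^a × P^b`. -/
def UU (a b : ℕ) (p : Fin (a + 1) × Fin (b + 1)) : (PP.{u} a b).Opens :=
  p1 a b ⁻¹ᵁ chart a p.1 ⊓ p2 a b ⁻¹ᵁ chart b p.2

/-- The product of coordinate ratios on a standard open. -/
def co (a b : ℕ) (p p' : Fin (a + 1) × Fin (b + 1)) : Γ(PP.{u} a b, UU a b p) :=
  ev (p1 a b) (chart a p.1) (UU a b p) inf_le_left (ratio a p.1 p'.1) *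
    ev (p2 a b) (chart b p.2) (UU a b p) inf_le_right (ratio b p.2 p'.2)

theorem co_self (a b : ℕ) (p : Fin (a + 1) × Fin (b + 1)) : co.{u} a b p p = 1 := by
  rw [co, ProjMor.ratio_self, ProjMor.ratio_self, map_one, map_one, one_mul]

theorem exists_cover (a b : ℕ) (x : PP.{u} a b) : ∃ p, x ∈ UU a b p := by
  obtain ⟨i, hi⟩ := exists_mem_chart a ((p1 a b).base x)
  obtain ⟨j, hj⟩ := exists_mem_chart b ((p2 a b).base x)
  exact ⟨(i, j), hi, hj⟩

theorem basicOpen_co (a b : ℕ) (p p' : Fin (a + 1) × Fin (b + 1)) :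
    (PP.{u} a b).basicOpen (co a b p p') = UU a b p ⊓ UU a b p' := by
  rw [co, Scheme.basicOpen_mul]
  have e1 := basicOpen_ev_deh (V := UU a b p) (p1 a b) (MvPolynomial.isHomogeneous_X _ p.1)
    (MvPolynomial.isHomogeneous_X _ p'.1) inf_le_left
  have e2 := basicOpen_ev_deh (V := UU a b p) (p2 a b) (MvPolynomial.isHomogeneous_X _ p.2)
    (MvPolynomial.isHomogeneous_X _ p'.2) inf_le_right
  refine le_antisymm (fun z hz => ?_) fun z hz => ⟨e1.ge ⟨hz.1, hz.2.1⟩, e2.ge ⟨hz.1, hz.2.2⟩⟩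
  exact ⟨(e1.le hz.1).1, (e1.le hz.1).2, (e2.le hz.2).2⟩

theorem co_cross (a b : ℕ) (p q p' : Fin (a + 1) × Fin (b + 1)) :
    resO (PP.{u} a b) (inf_le_left : UU a b p ⊓ UU a b q ≤ UU a b p) (co a b p p') =
      resO _ inf_le_left (co a b p q) *
        resO _ (inf_le_right : UU a b p ⊓ UU a b q ≤ UU a b q) (co a b q p') := by
  have e1 := ProjMor.ev_cross (V := UU a b p ⊓ UU a b q) (p1 a b)
    (MvPolynomial.isHomogeneous_X (ULift.{u} ℤ) p.1) (MvPolynomial.isHomogeneous_X _ q.1)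
    (inf_le_left.trans inf_le_left) (inf_le_right.trans inf_le_left)
    (n := 1) (MvPolynomial.isHomogeneous_X _ p'.1)
  have e2 := ProjMor.ev_cross (V := UU a b p ⊓ UU a b q) (p2 a b)
    (MvPolynomial.isHomogeneous_X (ULift.{u} ℤ) p.2) (MvPolynomial.isHomogeneous_X _ q.2)
    (inf_le_left.trans inf_le_right) (inf_le_right.trans inf_le_right)
    (n := 1) (MvPolynomial.isHomogeneous_X _ p'.2)
  rw [pow_one] at e1 e2
  simp only [co, map_mul]
  erw [ProjMor.ev_res, ProjMor.ev_res, ProjMor.ev_res, ProjMor.ev_res, ProjMor.ev_res, ProjMor.ev_res]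
  refine Eq.trans (congrArg₂ (· * ·) e1.symm e2.symm) ?_
  refine (mul_mul_mul_comm _ _ _ _).trans ?_
  exact mul_comm _ _

/-- The Segre embedding with its coordinates. -/
theorem exists_segre (a b : ℕ) :
    ∃ (N : ℕ) (e : Fin (a + 1) × Fin (b + 1) ≃ Fin (N + 1))
      (s : PP.{u} a b ⟶ CohB1.ProjSpace N (ULift.{u} ℤ)),
      IsClosedImmersion s ∧ ∀ p, s ⁻¹ᵁ chart N (e p) = UU a b p ∧
        ∃ h : UU a b p ≤ s ⁻¹ᵁ chart N (e p), ∀ p',
          ev s (chart N (e p)) (UU a b p) h (ratio N (e p) (e p')) = co a b p p' := by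
  classical
  let Z := ULift.{u} ℤ
  let N := a * b + a + b
  let e : Fin (a + 1) × Fin (b + 1) ≃ Fin (N + 1) := finProdFinEquiv.trans (finCongr (by simp [N]; ring))
  let φ : ∀ p, MvPolynomial (Fin (N + 1)) Z →+* Γ(PP.{u} a b, UU a b p) := fun p =>
    MvPolynomial.eval₂Hom ((Int.castRingHom _).comp ULift.ringEquiv.toRingHom) fun i => co a b p (e.symm i)
  have hφX : ∀ p p', φ p (MvPolynomial.X (e p')) = co a b p p' := fun p p' => by simp [φ]
  let C : ULift.{u} (Fin (a + 1) × Fin (b + 1)) → ProjMor.Chart (PP.{u} a b) (CohB1.polyGrading N Z) := fun p =>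
    { U := UU a b p.down
      g := MvPolynomial.X (e p.down)
      hg := MvPolynomial.isHomogeneous_X Z _
      φ := φ p.down
      hφ := by rw [hφX, co_self] }
  obtain ⟨s, hs⟩ := ProjMor.exists_of_charts (ProjMor.genDegOne_projSpace N Z) C
    (fun x => by obtain ⟨p, hp⟩ := exists_cover a b x; exact ⟨⟨p⟩, hp⟩) (by
      rintro ⟨p⟩ ⟨q⟩
      refine ⟨?_, fun c => ?_, fun f hf => ?_⟩
      · change UU a b p ⊓ UU a b q ≤ (PP.{u} a b).basicOpen (φ p (MvPolynomial.X (e q)))
        rw [hφX, basicOpen_co]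
      · exact RingHom.congr_fun (ProjMor.ext_uliftInt
          (((Groth.Agent.QC.resO (PP.{u} a b) inf_le_left).comp (φ p)).comp (algebraMap Z _))
          (((Groth.Agent.QC.resO (PP.{u} a b) inf_le_right).comp (φ q)).comp (algebraMap Z _))) c
      · obtain ⟨m, rfl⟩ := ProjMor.exists_of_mem_one (ProjMor.linForms_mem N Z)
          (ProjMor.adjoin_linForms N Z) hf
        change resO _ _ (φ p _) = resO _ _ (φ p (MvPolynomial.X (e q))) * resO _ _ (φ q _)
        rw [ProjMor.linForms, Fintype.linearCombination_apply, map_sum, map_sum, map_sum, map_sum,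
          Finset.mul_sum]
        refine Finset.sum_congr rfl fun i _ => ?_
        obtain ⟨p', rfl⟩ := e.surjective i
        rw [MvPolynomial.smul_eq_C_mul, map_mul, map_mul, map_mul, map_mul, hφX, hφX, hφX]
        have hC : resO (PP.{u} a b) (inf_le_left : UU a b p ⊓ UU a b q ≤ UU a b p) (φ p (MvPolynomial.C (m (e p')))) =
            resO (PP.{u} a b) (inf_le_right : UU a b p ⊓ UU a b q ≤ UU a b q) (φ q (MvPolynomial.C (m (e p')))) :=
          RingHom.congr_fun (ProjMor.ext_uliftInt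
            (((Groth.Agent.QC.resO (PP.{u} a b) inf_le_left).comp (φ p)).comp MvPolynomial.C)
            (((Groth.Agent.QC.resO (PP.{u} a b) inf_le_right).comp (φ q)).comp MvPolynomial.C)) _
        refine Eq.trans (congrArg₂ (· * ·) hC (co_cross a b p q p')) ?_
        exact mul_left_comm _ _ _)
  choose hle hev using fun p => hs ⟨p⟩
  have hpre : ∀ p, s ⁻¹ᵁ chart N (e p) = UU a b p := fun p => by
    refine le_antisymm (fun x hx => ?_) (hle p)
    obtain ⟨q, hq⟩ := exists_cover a b x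
    have e1 := basicOpen_ev_deh s (C ⟨q⟩).hg (MvPolynomial.isHomogeneous_X Z (e p)) (hle q)
    have h1 : x ∈ (PP.{u} a b).basicOpen (ev s _ (UU a b q) (hle q)
        (GrT.deh _ (C ⟨q⟩).hg (MvPolynomial.X (e p)))) := e1.ge ⟨hq, hx⟩
    rw [hev] at h1
    have h2 : x ∈ (PP.{u} a b).basicOpen (φ q (MvPolynomial.X (e p))) := h1
    rw [hφX, basicOpen_co] at h2
    exact h2.2
  have hval : ∀ p p', ev s (chart N (e p)) (UU a b p) (hle p) (ratio N (e p) (e p')) = co a b p p' :=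
    fun p p' => (hev p (MvPolynomial.X (e p'))).trans (hφX p p')
  refine ⟨N, e, s, ?_, fun p => ⟨hpre p, hle p, hval p⟩⟩
  haveI hIm : IsImmersion s := by
    refine ProjMor.isImmersion_of_forall s fun x => ?_
    obtain ⟨p, hp⟩ := exists_cover a b x
    refine ⟨chart N (e p), (hpre p).ge hp, ?_⟩
    let W := chart.{u} N (e p)
    obtain ⟨g1, hg1, hg1e⟩ := ProjMor.exists_hom_chart (Z := W.toScheme) p.1
      (fun i => W.topIso.inv (ratio N (e p) (e (i, p.2))))
      (by simp only [Prod.mk.eta, ProjMor.ratio_self]; rw [map_one])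
    obtain ⟨g2, hg2, hg2e⟩ := ProjMor.exists_hom_chart (Z := W.toScheme) p.2
      (fun j => W.topIso.inv (ratio N (e p) (e (p.1, j))))
      (by simp only [Prod.mk.eta, ProjMor.ratio_self]; rw [map_one])
    let g : W.toScheme ⟶ PP.{u} a b := pullback.lift g1 g2 (specULiftZIsTerminal.hom_ext _ _)
    have main : ∀ {c : ℕ} (pr : PP.{u} a b ⟶ CohB1.ProjSpace c (ULift.{u} ℤ)) (i0 : Fin (c + 1))
        (gg : W.toScheme ⟶ CohB1.ProjSpace c (ULift.{u} ℤ)) (hgg : ⊤ ≤ gg ⁻¹ᵁ chart c i0)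
        (d : Fin (c + 1) → Fin (a + 1) × Fin (b + 1))
        (hgge : ∀ i, ev gg (chart c i0) ⊤ hgg (ratio c i0 i) = W.topIso.inv (ratio N (e p) (e (d i))))
        (hU : s ⁻¹ᵁ W ≤ pr ⁻¹ᵁ chart c i0)
        (hco : ∀ i, ev s W (s ⁻¹ᵁ W) le_rfl (ratio N (e p) (e (d i))) =
          ev pr (chart c i0) (s ⁻¹ᵁ W) hU (ratio c i0 i)),
        (s ∣_ W) ≫ gg = (s ⁻¹ᵁ W).ι ≫ pr := by
      intro c pr i0 gg hgg d hgge hU hco
      have h1 : ⊤ ≤ ((s ∣_ W) ≫ gg) ⁻¹ᵁ chart c i0 := fun z _ => hgg (x := (s ∣_ W).base z) trivial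
      have h2 : ⊤ ≤ ((s ⁻¹ᵁ W).ι ≫ pr) ⁻¹ᵁ chart c i0 := fun z _ => hU z.2
      have : IsIso (⊤ : (s ⁻¹ᵁ W).toScheme.Opens).ι := inferInstanceAs (IsIso (s ⁻¹ᵁ W).toScheme.topIso.hom)
      refine (cancel_epi (⊤ : (s ⁻¹ᵁ W).toScheme.Opens).ι).mp
        (ProjMor.ι_comp_eq_of_ev_eq (ProjMor.isAffineOpen_chart c i0) _ _ h1 h2
          (ProjMor.ringHom_ext_ratio i0 _ _ fun i => ?_))
      rw [ProjMor.ev_restrict_comp s W gg _ hgg h1 (hgge i), ProjMor.ev_ι_comp _ pr _ hU h2, ← hco i]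
      refine congrArg (s ⁻¹ᵁ W).topIso.inv ?_
      exact congrArg (fun m => (CommRingCat.Hom.hom m) (ratio N (e p) (e (d i))))
        (Scheme.Hom.appLE_eq_app s).symm
    have hUW : s ⁻¹ᵁ W ≤ UU a b p := (hpre p).le
    have hres : ∀ p', ev s W (s ⁻¹ᵁ W) le_rfl (ratio N (e p) (e p')) =
        resO _ hUW (co a b p p') := fun p' => by
      rw [← hval p p', ProjMor.ev_res]
    have key : (s ∣_ W) ≫ g = (s ⁻¹ᵁ W).ι := by
      refine pullback.hom_ext ?_ ?_
      · rw [Category.assoc, pullback.lift_fst]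
        refine main (p1 a b) p.1 g1 hg1 (fun i => (i, p.2)) hg1e (hUW.trans inf_le_left) fun i => ?_
        rw [hres, co]
        simp only [ProjMor.ratio_self, map_one, mul_one]
        exact ProjMor.ev_res _ _ _ _
      · rw [Category.assoc, pullback.lift_snd]
        refine main (p2 a b) p.2 g2 hg2 (fun j => (p.1, j)) hg2e (hUW.trans inf_le_right) fun j => ?_
        rw [hres, co]
        simp only [ProjMor.ratio_self, map_one, one_mul]
        exact ProjMor.ev_res _ _ _ _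
    haveI : IsImmersion ((s ∣_ W) ≫ g) := by rw [key]; infer_instance
    exact IsImmersion.of_comp (s ∣_ W) g
  haveI : IsProper (CohB1.ProjSpace.toSpec a Z) := ProjMor.isProper_toSpec a Z
  haveI : IsProper (CohB1.ProjSpace.toSpec b Z) := ProjMor.isProper_toSpec b Z
  haveI : IsProper (CohB1.ProjSpace.toSpec N Z) := ProjMor.isProper_toSpec N Z
  haveI : IsProper (s ≫ CohB1.ProjSpace.toSpec N Z) := by
    rw [specULiftZIsTerminal.hom_ext (s ≫ CohB1.ProjSpace.toSpec N Z)
      (p1 a b ≫ CohB1.ProjSpace.toSpec a Z)]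
    change IsProper (pullback.fst _ _ ≫ _)
    infer_instance
  haveI : IsProper s := IsProper.of_comp s (CohB1.ProjSpace.toSpec N Z)
  exact .of_isPreimmersion s s.isClosedMap.isClosed_range

end Groth.Agent.ProjNoether
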