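import Groth.Agent.ProjNoether.Map
import Groth.Agent.ProjMor.IsoOfGens
import Groth.Agent.ProjMor.PullSec

/-!
The pullback of `O(1)` along a linear projection.
-/

set_option autoImplicit false
set_option backward.isDefEq.respectTransparency false

universe u

open CategoryTheory CategoryTheory.Limits AlgebraicGeometry TopologicalSpace
open Groth.Agent.QC (res resO res_res res_smul resO_resO app_res)

noncomputable section

namespace Groth.Agent.ProjNoether

variable {k : Type u} [CommRing k] {n d : ℕ} {X : Scheme.{u}}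

/-- A morphism with the chart ratios of linear forms pulls `O(1)` back to `O(1)`. -/
theorem nonempty_iso_of_ratio (ι : X ⟶ CohB1.ProjSpace n k) (r : X ⟶ CohB1.ProjSpace d k)
    (h : Fin (d + 1) → MvPolynomial (Fin (n + 1)) k) (hh : ∀ j, h j ∈ CohB1.polyGrading n k 1)
    (hcov : ∀ x : X, ∃ j, ι.base x ∈ Proj.basicOpen (CohB1.polyGrading n k) (h j))
    (hle : ∀ j, ι ⁻¹ᵁ Proj.basicOpen (CohB1.polyGrading n k) (h j) ≤
      r ⁻¹ᵁ Proj.basicOpen (CohB1.polyGrading d k) (MvPolynomial.X j))
    (hval : ∀ j i, ProjMor.ev r _ _ (hle j)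
        (GrT.deh _ (MvPolynomial.isHomogeneous_X k j) (MvPolynomial.X i)) =
      ProjMor.ev ι _ _ le_rfl (GrT.deh _ (hh j) (h i))) :
    Nonempty ((Scheme.Modules.pullback r).obj (Twist.twistProjSpace d k 1) ≅
      (Scheme.Modules.pullback ι).obj (Twist.twistProjSpace n k 1)) := by
  let P : TMul.GenPair ((Scheme.Modules.pullback r).obj (Twist.twist (CohB1.polyGrading d k) 1))
      ((Scheme.Modules.pullback ι).obj (Twist.twist (CohB1.polyGrading n k) 1)) (ULift.{u} (Fin (d + 1))) :=
    { U := fun j => ι ⁻¹ᵁ Proj.basicOpen (CohB1.polyGrading n k) (h j.down)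
      cover := fun x => by obtain ⟨j, hj⟩ := hcov x; exact ⟨⟨j⟩, hj⟩
      e := fun j => ProjMor.pull1 r (show MvPolynomial.X j.down ∈ CohB1.polyGrading d k 1 from
        MvPolynomial.isHomogeneous_X k _)
      f := fun j => ProjMor.pull1 ι (hh j.down)
      he := fun j => ProjMor.isGen_pull1 (ProjMor.genDegOne_projSpace d k) r _ (hle j.down)
      hf := fun j => ProjMor.isGen_pull1 (ProjMor.genDegOne_projSpace n k) ι _ le_rfl
      hc := fun i j => by
        refine ⟨resO X inf_le_left (ProjMor.ev ι _ _ le_rfl (GrT.deh _ (hh i.down) (h j.down))), ?_, ?_⟩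
        · have e := congrArg (res _ (inf_le_left : _ ⊓ ι ⁻¹ᵁ Proj.basicOpen (CohB1.polyGrading n k) (h j.down) ≤
              ι ⁻¹ᵁ Proj.basicOpen (CohB1.polyGrading n k) (h i.down)))
            (ProjMor.res_pull1 r (MvPolynomial.isHomogeneous_X k i.down)
              (show MvPolynomial.X j.down ∈ CohB1.polyGrading d k 1 from MvPolynomial.isHomogeneous_X k _)
              (hle i.down))
          rw [res_res, res_smul, res_res] at e
          erw [hval] at e
          exact e
        · have e := congrArg (res _ (inf_le_left : _ ⊓ ι ⁻¹ᵁ Proj.basicOpen (CohB1.polyGrading n k) (h j.down) ≤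
              ι ⁻¹ᵁ Proj.basicOpen (CohB1.polyGrading n k) (h i.down)))
            (ProjMor.res_pull1 ι (hh i.down) (hh j.down) (le_refl (ι ⁻¹ᵁ Proj.basicOpen (CohB1.polyGrading n k) (h i.down))))
          rw [res_res, res_smul, res_res] at e
          exact e }
  exact ⟨P.iso⟩

end Groth.Agent.ProjNoether
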